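import Cfsg.Prelude.Def_Solvable
import Cfsg.Prelude.Def_Local
import Cfsg.Agent.Lib.Components.GenFitting
import Cfsg.Agent.Lib.Coprime.Stabilize

/-!
Groups of characteristic `p` (`C(O_p) ≤ O_p`) and their local subgroups.

* `thompson_axb`: Thompson's `A × B` lemma, element form
* `cp_of_forall`, `cp_elim`: `C(O_p G) ≤ O_p G` iff no `p'`-element centralises `O_p G`
* `genFitting_eq_pCore_iff`: `F*(G) = O_p(G)` iff `C(O_p G) ≤ O_p G`
* `cp_of_normalized`, `cp_of_normal`, `cp_of_isSubnormal`
* `cp_centralizer_of_le`, `cp_normalizer_of_centralizer`, `cp_normalizer_of_centralizer_elem`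
-/

set_option autoImplicit false

namespace Cfsg.Agent.LocalChar

open Subgroup

variable {G H : Type*} [Group G] [Group H] {p : ℕ}

/-- `G` has characteristic `p`. -/
def CP (p : ℕ) (G : Type*) [Group G] : Prop :=
  centralizer (Cfsg.pCore p G : Set G) ≤ Cfsg.pCore p G

theorem pCore_le_comap_equiv (e : G ≃* H) (p : ℕ) :
    Cfsg.pCore p G ≤ (Cfsg.pCore p H).comap e.toMonoidHom := by
  refine sSup_le fun N hN => ?_
  rw [← map_le_iff_le_comap]
  exact le_sSup ⟨hN.1.map _ e.surjective, hN.2.map _⟩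

theorem map_pCore_equiv (e : G ≃* H) (p : ℕ) :
    (Cfsg.pCore p G).map e.toMonoidHom = Cfsg.pCore p H := by
  refine le_antisymm (map_le_iff_le_comap.2 (pCore_le_comap_equiv e p)) fun y hy => ?_
  exact ⟨e.symm y, pCore_le_comap_equiv e.symm p hy, e.apply_symm_apply y⟩

theorem pCore_characteristic (p : ℕ) : (Cfsg.pCore p G).Characteristic :=
  characteristic_iff_map_le.2 fun e => (map_pCore_equiv e p).le

theorem le_pCore {N : Subgroup G} (hN : N.Normal) (hp : IsPGroup p ↥N) : N ≤ Cfsg.pCore p G :=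
  le_sSup ⟨hN, hp⟩

/-- `O_p` of a normal subgroup lies in `O_p`. -/
theorem map_pCore_le_of_normal [Finite G] {N : Subgroup G} (hN : N.Normal) :
    (Cfsg.pCore p ↥N).map N.subtype ≤ Cfsg.pCore p G := by
  have := pCore_characteristic (G := ↥N) p
  exact le_pCore ConjAct.normal_of_characteristic_of_normal
    ((Components.isPGroup_pCore' (G := ↥N) p).map _)

/-- A `p`-subgroup of `L` normal in `L` lies in `O_p(L)`. -/
theorem mem_pCore_subgroup {L R : Subgroup G} (hRp : IsPGroup p ↥R)
    (hn : L ≤ normalizer (R : Set G)) {x : G} (hxL : x ∈ L) (hxR : x ∈ R) :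
    (⟨x, hxL⟩ : ↥L) ∈ Cfsg.pCore p ↥L := by
  have hnorm : ((R ⊓ L).subgroupOf L).Normal := by
    refine ⟨fun a ha g => ?_⟩
    refine ⟨?_, (g * a * g⁻¹ : ↥L).2⟩
    exact ((mem_normalizer_iff).1 (hn g.2) a).1 ha.1
  refine le_pCore hnorm ?_ ⟨hxR, hxL⟩
  exact (hRp.to_le inf_le_left).of_equiv (subgroupOfEquivOfLe inf_le_right).symm

theorem eq_one_of_isPGroup {P : Subgroup G} (hP : IsPGroup p ↥P) (hp : p.Prime) {b : G}
    (hb : b ∈ P) (hd : ¬ p ∣ orderOf b) : b = 1 := by
  obtain ⟨k, hk⟩ := hP ⟨b, hb⟩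
  have hk' : b ^ p ^ k = 1 := congrArg Subtype.val hk
  obtain ⟨j, -, hj⟩ := (Nat.dvd_prime_pow hp).1 (orderOf_dvd_of_pow_eq_one hk')
  rcases Nat.eq_zero_or_pos j with rfl | hj0
  · simpa using hj
  · exact absurd (hj ▸ dvd_pow_self p hj0.ne') hd

theorem coprime_orderOf {P : Subgroup G} (hP : IsPGroup p ↥P) (hp : p.Prime) {b c : G}
    (hc : c ∈ P) (hd : ¬ p ∣ orderOf b) : (orderOf b).Coprime (orderOf c) := by
  obtain ⟨k, hk⟩ := hP ⟨c, hc⟩
  have hk' : c ^ p ^ k = 1 := congrArg Subtype.val hk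
  exact Nat.Coprime.coprime_dvd_right (orderOf_dvd_of_pow_eq_one hk')
    (((hp.coprime_iff_not_dvd.2 hd).symm).pow_right k)

/-- `b` acts trivially on a `p`-group element if it centralises the commutator. -/
theorem commute_of_commute_commutator {P : Subgroup G} (hP : IsPGroup p ↥P) (hp : p.Prime)
    {b q : G} (hd : ¬ p ∣ orderOf b) (hc : b * q * b⁻¹ * q⁻¹ ∈ P)
    (hcomm : Commute b (b * q * b⁻¹ * q⁻¹)) : Commute b q :=
  Coprime.commute_of_translate (by group) hcomm (coprime_orderOf hP hp hc hd)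

/-- **Thompson's `A × B` lemma**: a `p'`-element `b` that commutes with the `p`-group `X` and fixes
`C_Q(X)` pointwise fixes the `p`-group `Q` pointwise. -/
theorem thompson_axb [Finite G] [hp : Fact p.Prime] {X Q : Subgroup G} {b : G}
    (hQ : IsPGroup p ↥Q) (hX : IsPGroup p ↥X) (hXQ : X ≤ normalizer (Q : Set G))
    (hbQ : b ∈ normalizer (Q : Set G)) (hd : ¬ p ∣ orderOf b) (hbX : ∀ x ∈ X, Commute b x)
    (hfix : ∀ q ∈ Q, (∀ x ∈ X, Commute x q) → Commute b q) : ∀ q ∈ Q, Commute b q := by
  classical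
  let Q₀ : Subgroup G := Q ⊓ centralizer ({b} : Set G)
  by_contra hne
  have hne' : ¬ Q ≤ centralizer ({b} : Set G) := fun h => hne fun q hq =>
    mem_centralizer_singleton_iff.1 (h hq) |>.symm
  have hlt : Q₀.subgroupOf Q < ⊤ := lt_top_iff_ne_top.2 fun h =>
    hne' fun q hq => ((subgroupOf_eq_top.1 h) hq).2
  have hnil : Group.IsNilpotent ↥Q := hQ.isNilpotent
  have hlt2 := Group.normalizerCondition_of_isNilpotent (Q₀.subgroupOf Q) hlt
  -- the orbit count on cosets
  let N : Subgroup G := (normalizer ((Q₀.subgroupOf Q : Subgroup ↥Q) : Set ↥Q)).map Q.subtype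
  have hNQ : N ≤ Q := map_subtype_le _
  have hNmem : ∀ y, y ∈ N ↔ y ∈ Q ∧ ∀ q, (q ∈ Q₀ ↔ y * q * y⁻¹ ∈ Q₀) := by
    intro y
    constructor
    · rintro ⟨w, hw, rfl⟩
      refine ⟨w.2, fun q => ?_⟩
      by_cases hq : q ∈ Q
      · exact (mem_normalizer_iff.1 hw) ⟨q, hq⟩
      · constructor
        · exact fun h => absurd h.1 hq
        · intro h
          have h1 : q ∈ Q := by
            simpa [mul_assoc] using mul_mem (mul_mem (inv_mem w.2) h.1) w.2
          exact absurd h1 hq
    · rintro ⟨hy, h⟩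
      exact ⟨⟨y, hy⟩, mem_normalizer_iff.2 fun q => h q, rfl⟩
  have hQ₀N : Q₀ ≤ N := fun q hq => (hNmem q).2 ⟨hq.1, fun r =>
    ⟨fun hr => mul_mem (mul_mem hq hr) (inv_mem hq), fun hr => by
      simpa [mul_assoc] using mul_mem (mul_mem (inv_mem hq) hr) hq⟩⟩
  have hQ₀ne : ¬ N ≤ Q₀ := fun h => hlt2.not_ge fun w hw => h ⟨w, hw, rfl⟩
  -- `X` normalises `Q₀` and `N`
  have hXQ₀ : ∀ x ∈ X, ∀ q ∈ Q₀, x * q * x⁻¹ ∈ Q₀ := by
    intro x hx q hq
    refine ⟨(mem_normalizer_iff.1 (hXQ hx) q).1 hq.1, mem_centralizer_singleton_iff.2 ?_⟩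
    have h1 : Commute b q := (mem_centralizer_singleton_iff.1 hq.2).symm
    exact ((hbX x hx).mul_right h1).mul_right (hbX x hx).inv_right |>.symm
  have hXN : ∀ x ∈ X, ∀ y ∈ N, x * y * x⁻¹ ∈ N := by
    intro x hx y hy
    obtain ⟨hyQ, hyN⟩ := (hNmem y).1 hy
    refine (hNmem _).2 ⟨(mem_normalizer_iff.1 (hXQ hx) y).1 hyQ, fun q => ?_⟩
    constructor
    · intro hq
      have h1 := hXQ₀ x⁻¹ (inv_mem hx) q hq
      have h2 := hXQ₀ x hx _ ((hyN _).1 h1)
      simpa [mul_assoc] using h2
    · intro hq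
      have h1 := hXQ₀ x⁻¹ (inv_mem hx) _ hq
      have h2 := hXQ₀ x hx _ ((hyN (x⁻¹ * q * x)).2 (by simpa [mul_assoc] using h1))
      simpa [mul_assoc] using h2
  let actN : MulAction ↥X (↥N ⧸ Q₀.subgroupOf N) :=
    { smul := fun x => Quotient.map'
        (fun y => (⟨x * y * (x : G)⁻¹, hXN x x.2 y y.2⟩ : ↥N))
        (fun a c h => by
          rw [QuotientGroup.leftRel_apply] at h ⊢
          have h1 := hXQ₀ x x.2 _ h
          show ((x : G) * a * (x : G)⁻¹)⁻¹ * ((x : G) * c * (x : G)⁻¹) ∈ Q₀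
          simpa [mul_assoc] using h1)
      one_smul := fun a => by
        induction a using Quotient.inductionOn' with
        | h a => exact congrArg QuotientGroup.mk (Subtype.ext (by simp))
      mul_smul := fun x y a => by
        induction a using Quotient.inductionOn' with
        | h a => exact congrArg QuotientGroup.mk (Subtype.ext (by simp [mul_assoc])) }
  have hdvd : p ∣ Nat.card (↥N ⧸ Q₀.subgroupOf N) := by
    obtain ⟨k, hk⟩ := (hQ.to_le hNQ).index (Q₀.subgroupOf N)
    rw [← index_eq_card, hk]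
    rcases Nat.eq_zero_or_pos k with rfl | hk0
    · exact absurd (subgroupOf_eq_top.1 (index_eq_one.1 (by simpa using hk))) hQ₀ne
    · exact dvd_pow_self p hk0.ne'
  have hfixed : (QuotientGroup.mk (1 : ↥N) : ↥N ⧸ Q₀.subgroupOf N) ∈
      MulAction.fixedPoints ↥X (↥N ⧸ Q₀.subgroupOf N) := fun x =>
    congrArg QuotientGroup.mk (Subtype.ext (by simp))
  obtain ⟨a, hafix, hane⟩ :=
    hX.exists_fixed_point_of_prime_dvd_card_of_fixed_point _ hdvd hfixed
  induction a using QuotientGroup.induction_on with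
  | H y =>
    obtain ⟨hyQ, hyN⟩ := (hNmem y).1 y.2
    have hyQ₀ : (y : G) ∉ Q₀ := fun h => hane (QuotientGroup.eq.2 (by
      show ((1 : ↥N) : G)⁻¹ * y ∈ Q₀
      simpa using h))
    set c : G := (y : G)⁻¹ * (b * y * b⁻¹) with hc
    have hcQ : c ∈ Q := mul_mem (inv_mem hyQ) ((mem_normalizer_iff.1 hbQ _).1 hyQ)
    -- `c` centralises `Q₀`
    have hcQ₀ : ∀ q ∈ Q₀, Commute c q := by
      intro q hq
      have h1 := ((hyN q).1 hq).2
      have h2 : Commute b q := (mem_centralizer_singleton_iff.1 hq.2).symm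
      have h3 : Commute b ((y : G) * q * (y : G)⁻¹) := (mem_centralizer_singleton_iff.1 h1).symm
      show c * q = q * c
      have h4 : b * ((y : G) * q * (y : G)⁻¹) * b⁻¹ = (y : G) * q * (y : G)⁻¹ := by
        rw [h3.eq]; group
      calc c * q = (y : G)⁻¹ * (b * y * (b⁻¹ * q)) := by rw [hc]; group
        _ = (y : G)⁻¹ * (b * y * (q * b⁻¹)) := by rw [(h2.inv_left).eq]
        _ = (y : G)⁻¹ * (b * ((y : G) * q * (y : G)⁻¹) * b⁻¹) * (b * y * b⁻¹) := by group
        _ = (y : G)⁻¹ * ((y : G) * q * (y : G)⁻¹) * (b * y * b⁻¹) := by rw [h4]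
        _ = q * c := by rw [hc]; group
    -- `c` is fixed by `X`, hence by `b`
    have hcX : ∀ x ∈ X, Commute x c := by
      intro x hx
      have h1 : (y : G)⁻¹ * (x * y * x⁻¹) ∈ Q₀ := by
        have h := QuotientGroup.eq.1 (hafix ⟨x, hx⟩).symm
        exact h
      set q := (y : G)⁻¹ * (x * y * x⁻¹) with hq
      have h2 : x * y * x⁻¹ = y * q := by rw [hq]; group
      have h3 : b * q * b⁻¹ = q := by
        rw [← (mem_centralizer_singleton_iff.1 h1.2)]; group
      have h4 : x * c * x⁻¹ = c := by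
        calc x * c * x⁻¹
            = (x * y * x⁻¹)⁻¹ * ((x * b) * y * (x * b)⁻¹) := by rw [hc]; group
          _ = (x * y * x⁻¹)⁻¹ * ((b * x) * y * (b * x)⁻¹) := by rw [(hbX x hx).eq]
          _ = (x * y * x⁻¹)⁻¹ * (b * (x * y * x⁻¹) * b⁻¹) := by group
          _ = (y * q)⁻¹ * (b * (y * q) * b⁻¹) := by rw [h2]
          _ = q⁻¹ * c * (b * q * b⁻¹) := by rw [hc]; group
          _ = q⁻¹ * (c * q) := by rw [h3]; group
          _ = c := by rw [(hcQ₀ q h1).eq]; group
      show x * c = c * x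
      conv_rhs => rw [← h4]
      group
    have hbc : Commute b c := hfix c hcQ hcX
    -- hence `b` fixes `y`
    have htrans : b * (y : G) * b⁻¹ = (y : G) * c * (y : G)⁻¹ * y := by rw [hc]; group
    have hby : Commute b (y : G) := by
      have hk : ∀ k : ℕ, b ^ k * (y : G) * (b ^ k)⁻¹ = y * c ^ k := by
        intro k
        induction k with
        | zero => simp
        | succ k ih =>
          calc b ^ (k + 1) * (y : G) * (b ^ (k + 1))⁻¹
              = b * (b ^ k * y * (b ^ k)⁻¹) * b⁻¹ := by rw [pow_succ']; group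
            _ = b * (y * c ^ k) * b⁻¹ := by rw [ih]
            _ = (b * y) * (c ^ k * b⁻¹) := by group
            _ = (b * y) * (b⁻¹ * c ^ k) := by rw [((hbc.pow_right k).inv_left).eq]
            _ = y * c ^ (k + 1) := by rw [pow_succ']; generalize c ^ k = e; rw [hc]; group
      have h1 := hk (orderOf b)
      rw [pow_orderOf_eq_one] at h1
      have h2 : orderOf c ∣ orderOf b := orderOf_dvd_of_pow_eq_one (by simpa using h1.symm)
      have h3 : orderOf c = 1 :=
        Nat.eq_one_of_dvd_coprimes (coprime_orderOf hQ hp.out hcQ hd) h2 dvd_rfl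
      have h4 := hk 1
      rw [orderOf_eq_one_iff.1 h3] at h4
      show b * y = y * b
      have h5 : b * y * b⁻¹ = (y : G) := by simpa using h4
      exact mul_inv_eq_iff_eq_mul.1 h5
    exact hyQ₀ ⟨hyQ, mem_centralizer_singleton_iff.2 hby.symm⟩

/-- To prove characteristic `p` it is enough that no `p'`-element centralises `O_p`. -/
theorem cp_of_forall [Finite G] [hp : Fact p.Prime]
    (h : ∀ b : G, (∀ q ∈ Cfsg.pCore p G, Commute b q) → ¬ p ∣ orderOf b → b = 1) : CP p G := by
  have := Components.pCore_normal' (G := G) p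
  refine le_pCore inferInstance fun x => ?_
  obtain ⟨k, m, hm, hkm⟩ := Nat.exists_eq_pow_mul_and_not_dvd
    (orderOf_pos (x : G)).ne' p hp.out.ne_one
  refine ⟨k, Subtype.ext (h ((x : G) ^ p ^ k) (fun q hq => ?_) ?_)⟩
  · exact Commute.pow_left (mem_centralizer_iff.1 x.2 q hq).symm _
  · rw [orderOf_pow' _ (pow_ne_zero k hp.out.ne_zero), hkm,
      Nat.gcd_eq_right (dvd_mul_right _ _), Nat.mul_div_cancel_left _ (pow_pos hp.out.pos k)]
    exact hm

theorem cp_elim [Finite G] [hp : Fact p.Prime] (h : CP p G) {b : G}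
    (hc : ∀ q ∈ Cfsg.pCore p G, Commute b q) (hd : ¬ p ∣ orderOf b) : b = 1 :=
  eq_one_of_isPGroup (Components.isPGroup_pCore' p) hp.out
    (h (mem_centralizer_iff.2 fun q hq => (hc q hq).symm)) hd

theorem cp_congr (e : G ≃* H) (h : CP p G) : CP p H := by
  intro x hx
  rw [← map_pCore_equiv e p] at hx ⊢
  refine ⟨e.symm x, h (mem_centralizer_iff.2 fun q hq => ?_), e.apply_symm_apply x⟩
  apply e.injective
  simpa using mem_centralizer_iff.1 hx (e q) ⟨q, hq, rfl⟩

/-- `F*(G) = O_p(G)` iff `G` has characteristic `p`. -/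
theorem genFitting_eq_pCore_iff [Finite G] [hp : Fact p.Prime] :
    Cfsg.generalizedFittingSubgroup G = Cfsg.pCore p G ↔ CP p G := by
  constructor
  · intro h
    have h1 := Components.centralizer_generalizedFittingSubgroup_le (G := G)
    rwa [h] at h1
  · intro h
    refine le_antisymm (sup_le (sSup_le fun K hK => ?_) ?_)
      ((Components.pCore_le_fittingSubgroup hp.out).trans
        Components.fittingSubgroup_le_generalizedFittingSubgroup)
    · have h1 : ⁅K, Cfsg.pCore p G⁆ = ⊥ := le_bot_iff.1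
        ((commutator_mono le_rfl (Components.pCore_le_fittingSubgroup hp.out)).trans
          (Components.IsComponent.commutator_fittingSubgroup hK).le)
      have hle : K ≤ Cfsg.pCore p G := (Components.le_centralizer_of_commutator_eq_bot h1).trans h
      have : Group.IsNilpotent ↥K :=
        ((Components.isPGroup_pCore' (G := G) p).to_le hle).isNilpotent
      exact (Components.IsComponent.not_isSolvable hK inferInstance).elim
    · rw [Components.fittingSubgroup_eq_iSup_pCore]
      refine iSup_le fun q => ?_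
      by_cases hq : (q : ℕ) = p
      · rw [hq]
      · have := Fact.mk (Nat.prime_of_mem_primeFactors q.2)
        refine le_trans ?_ h
        intro x hx
        exact mem_centralizer_iff.2 fun y hy =>
          (commute_of_normal_of_disjoint _ _ (Components.pCore_normal' _)
            (Components.pCore_normal' _)
            (IsPGroup.disjoint_of_ne _ _ hq _ _ (Components.isPGroup_pCore' _)
              (Components.isPGroup_pCore' _)) x y hx hy).symm

/-- A subgroup normalised by `O_p` of a group of characteristic `p` has characteristic `p`. -/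
theorem cp_of_normalized [Finite G] [hp : Fact p.Prime] (hG : CP p G) {L : Subgroup G}
    (hL : Cfsg.pCore p G ≤ normalizer (L : Set G)) : CP p ↥L := by
  have hQn : (Cfsg.pCore p G).Normal := Components.pCore_normal' p
  refine cp_of_forall fun b hb hd => Subtype.ext (cp_elim hG (fun q hq => ?_) (by simpa using hd))
  have h1 : (b : G) * q * (b : G)⁻¹ * q⁻¹ ∈ Cfsg.pCore p G :=
    mul_mem (hQn.conj_mem q hq _) (inv_mem hq)
  have h2 : (b : G) * q * (b : G)⁻¹ * q⁻¹ ∈ L := by
    have h3 := mul_mem b.2 ((mem_normalizer_iff.1 (hL hq) (b : G)⁻¹).1 (inv_mem b.2))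
    simpa [mul_assoc] using h3
  have h4 := hb _ (mem_pCore_subgroup (Components.isPGroup_pCore' p)
    (fun g _ => by rw [Subgroup.normalizer_eq_top_iff.2 hQn]; trivial) h2 h1)
  exact commute_of_commute_commutator (Components.isPGroup_pCore' p) hp.out (by simpa using hd) h1
    (congrArg Subtype.val h4.eq)

theorem cp_of_normal [Finite G] [Fact p.Prime] (hG : CP p G) {N : Subgroup G} (hN : N.Normal) :
    CP p ↥N :=
  cp_of_normalized hG (by rw [Subgroup.normalizer_eq_top_iff.2 hN]; exact le_top)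

theorem cp_of_isSubnormal [Finite G] [Fact p.Prime] (hG : CP p G) {Y : Subgroup G}
    (hY : Y.IsSubnormal) : CP p ↥Y := by
  induction hY with
  | top => exact cp_congr topEquiv.symm hG
  | step A B hle hB hn ih => exact cp_congr (subgroupOfEquivOfLe hle) (cp_of_normal ih hn)

theorem cp_of_normal_subgroupOf [Finite G] [Fact p.Prime] {A B : Subgroup G} (hB : CP p ↥B)
    (hle : A ≤ B) (hn : (A.subgroupOf B).Normal) : CP p ↥A :=
  cp_congr (subgroupOfEquivOfLe hle) (cp_of_normal hB hn)

/-- In a group of characteristic `p` the centraliser of a `p`-subgroup has characteristic `p`. -/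
theorem cp_centralizer [Finite G] [hp : Fact p.Prime] (hG : CP p G) {X : Subgroup G}
    (hX : IsPGroup p ↥X) : CP p ↥(centralizer (X : Set G)) := by
  have hQn : (Cfsg.pCore p G).Normal := Components.pCore_normal' p
  have htop : normalizer (Cfsg.pCore p G : Set G) = ⊤ := Subgroup.normalizer_eq_top_iff.2 hQn
  refine cp_of_forall fun b hb hd => Subtype.ext (cp_elim hG ?_ (by simpa using hd))
  refine thompson_axb (Components.isPGroup_pCore' p) hX (by rw [htop]; exact le_top)
    (by rw [htop]; trivial) (by simpa using hd)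
    (fun x hx => (mem_centralizer_iff.1 b.2 x hx).symm) fun q hq hqX => ?_
  have hqC : q ∈ centralizer (X : Set G) := mem_centralizer_iff.2 fun x hx => (hqX x hx).eq
  exact congrArg Subtype.val (hb _ (mem_pCore_subgroup (Components.isPGroup_pCore' p)
    (by rw [htop]; exact le_top) hqC hq)).eq

/-- If `X ≤ M` is a `p`-group, `C(X) ≤ M` and `M` has characteristic `p`, then so has `C(X)`. -/
theorem cp_centralizer_of_le [Finite G] [Fact p.Prime] {M X : Subgroup G} (hM : CP p ↥M)
    (hX : IsPGroup p ↥X) (hXM : X ≤ M) (hCM : centralizer (X : Set G) ≤ M) :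
    CP p ↥(centralizer (X : Set G)) := by
  have h := cp_centralizer hM (hX.of_equiv (subgroupOfEquivOfLe hXM).symm)
  have he : centralizer (X.subgroupOf M : Set ↥M) = (centralizer (X : Set G)).subgroupOf M := by
    ext c
    simp only [mem_subgroupOf, mem_centralizer_iff, SetLike.mem_coe]
    constructor
    · intro hc x hx
      exact congrArg Subtype.val (hc ⟨x, hXM hx⟩ hx)
    · intro hc x hx
      exact Subtype.ext (hc _ hx)
  rw [he] at h
  exact cp_congr (subgroupOfEquivOfLe hCM) h

/-- If the centraliser of a `p`-subgroup has characteristic `p`, so has its normaliser. -/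
theorem cp_normalizer_of_centralizer [Finite G] [hp : Fact p.Prime] {B : Subgroup G}
    (hB : IsPGroup p ↥B) (hC : CP p ↥(centralizer (B : Set G))) :
    CP p ↥(normalizer (B : Set G)) := by
  refine cp_of_forall fun b hb hd => ?_
  have hbC : (b : G) ∈ centralizer (B : Set G) := mem_centralizer_iff.2 fun x hx =>
    (congrArg Subtype.val (hb _ (mem_pCore_subgroup hB le_rfl (le_normalizer hx) hx)).eq).symm
  have hle : centralizer (B : Set G) ≤ normalizer (B : Set G) := centralizer_le_normalizer _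
  have hnorm : ((centralizer (B : Set G)).subgroupOf (normalizer (B : Set G))).Normal := by
    refine ⟨fun c hc g => mem_subgroupOf.2 (mem_centralizer_iff.2 fun x hx => ?_)⟩
    have h1 := (mem_normalizer_iff''.1 g.2 x).1 hx
    have h2 := mem_centralizer_iff.1 (mem_subgroupOf.1 hc) _ h1
    show x * ((g : G) * c * (g : G)⁻¹) = (g : G) * c * (g : G)⁻¹ * x
    calc x * ((g : G) * c * (g : G)⁻¹)
        = (g : G) * (((g : G)⁻¹ * x * g) * c) * (g : G)⁻¹ := by group
      _ = (g : G) * (c * ((g : G)⁻¹ * x * g)) * (g : G)⁻¹ := by rw [h2]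
      _ = (g : G) * c * (g : G)⁻¹ * x := by group
  have hcore := map_pCore_le_of_normal (p := p) hnorm
  have h1 : (⟨(b : G), hbC⟩ : ↥(centralizer (B : Set G))) = 1 := by
    refine cp_elim hC (fun q hq => ?_) (by simpa using hd)
    have hq' : ((subgroupOfEquivOfLe hle).symm q) ∈
        Cfsg.pCore p ↥((centralizer (B : Set G)).subgroupOf (normalizer (B : Set G))) :=
      pCore_le_comap_equiv (subgroupOfEquivOfLe hle).symm p hq
    have h3 := congrArg Subtype.val (hb _ (hcore ⟨_, hq', rfl⟩)).eq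
    exact Subtype.ext h3
  have h4 : (b : G) = 1 := congrArg Subtype.val h1
  exact Subtype.ext h4

/-- If `z` is a `p`-element of `Z(X)` and `C(z)` has characteristic `p`, so has `N(X)`. -/
theorem cp_normalizer_of_centralizer_elem [Finite G] [Fact p.Prime] {X : Subgroup G} {z : G}
    (hX : IsPGroup p ↥X) (hzX : z ∈ X) (hz : ∀ x ∈ X, Commute x z)
    (hC : CP p ↥(centralizer ({z} : Set G))) : CP p ↥(normalizer (X : Set G)) :=
  cp_normalizer_of_centralizer hX <| cp_centralizer_of_le hC hX
    (fun x hx => mem_centralizer_singleton_iff.2 (hz x hx))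
    (centralizer_le (by simpa using hzX))

end Cfsg.Agent.LocalChar
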