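import Cfsg.Agent.Lib.PCore.Constrained
import Cfsg.Agent.Lib.LocalChar.Basic

/-!
# Descent of `p`-constraint to local subgroups

* `isPConstrained_of_centralizer`: a normal `p`-subgroup with `p`-constrained centralizer
* `isPConstrained_normalizer_of_le`: from a subgroup containing `N(T)` down to `N(T)`
* `isPConstrained_normalizer_of_centralizer_elem`: from `C(z)`, `z ∈ Z(T)`, to `N(T)`
* `cp_normalizer_of_le`: the same for characteristic `p`
-/

set_option autoImplicit false

namespace Cfsg.Agent.LocalChar

open Cfsg Subgroup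

variable {G : Type*} [Group G] [Finite G] {p : ℕ} [Fact p.Prime]

/-- A group with a normal `p`-subgroup whose centralizer is `p`-constrained is `p`-constrained. -/
theorem isPConstrained_of_centralizer {T : Subgroup G} [T.Normal] (hT : IsPGroup p ↥T)
    (h : IsPConstrained p ↥(centralizer (T : Set G))) : IsPConstrained p G := by
  set O := pPrimeCore p G with hO
  set f := (QuotientGroup.mk' O).subgroupMap (centralizer (T : Set G)) with hf
  have hnorm : (centralizer (T : Set G)).Normal :=
    Subgroup.normal_centralizer
  have hker : f.ker = pPrimeCore p ↥(centralizer (T : Set G)) := by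
    rw [PCore.pPrimeCore_normal_subgroup_eq]
    ext x
    rw [MonoidHom.mem_ker, mem_subgroupOf, ← QuotientGroup.eq_one_iff]
    exact ⟨fun hx => congrArg Subtype.val hx, fun hx => Subtype.ext hx⟩
  have h1 : CP p ↥((centralizer (T : Set G)).map (QuotientGroup.mk' O)) :=
    cp_congr ((QuotientGroup.quotientMulEquivOfEq hker.symm).trans
      (QuotientGroup.quotientKerEquivOfSurjective f (MonoidHom.subgroupMap_surjective _ _)))
      (PCore.isPConstrained_iff.mp h)
  rw [PCore.map_centralizer_mk' _ PCore.coprime_card_pPrimeCore hT] at h1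
  have h2 := cp_normalizer_of_centralizer (hT.map _) h1
  have htop : normalizer (T.map (QuotientGroup.mk' O) : Set (G ⧸ O)) = ⊤ :=
    normalizer_eq_top_iff.2 (Subgroup.Normal.map inferInstance _ (QuotientGroup.mk'_surjective O))
  rw [htop] at h2
  exact PCore.isPConstrained_iff.mpr (cp_congr topEquiv h2)

theorem normalizer_subgroupOf_eq {M T : Subgroup G} (hTM : T ≤ M) :
    normalizer ((T.subgroupOf M : Subgroup ↥M) : Set ↥M) = (normalizer (T : Set G)).subgroupOf M := by
  ext x
  simp only [mem_subgroupOf, mem_normalizer_iff]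
  constructor
  · intro hx y
    constructor
    · intro hy
      exact (hx ⟨y, hTM hy⟩).1 hy
    · intro hy
      have hyM : (x : G)⁻¹ * ((x : G) * y * (x : G)⁻¹) * (x : G) ∈ M :=
        M.mul_mem (M.mul_mem (M.inv_mem x.2) (hTM hy)) x.2
      rw [show (x : G)⁻¹ * ((x : G) * y * (x : G)⁻¹) * (x : G) = y by group] at hyM
      exact (hx ⟨y, hyM⟩).2 hy
  · intro hx y
    exact hx y

/-- `p`-constraint passes from a subgroup containing `N(T)` to `N(T)`. -/
theorem isPConstrained_normalizer_of_le {M T : Subgroup G} (hT : IsPGroup p ↥T) (hTM : T ≤ M)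
    (hNM : normalizer (T : Set G) ≤ M) (hM : IsPConstrained p ↥M) :
    IsPConstrained p ↥(normalizer (T : Set G)) := by
  have h := PCore.isPConstrained_normalizer hM (P := T.subgroupOf M) hT.comap_subtype
  rw [normalizer_subgroupOf_eq hTM] at h
  exact PCore.isPConstrained_of_equiv (subgroupOfEquivOfLe hNM) h

/-- Characteristic `p` passes from a subgroup containing `N(T)` to `N(T)`. -/
theorem cp_normalizer_of_le {M T : Subgroup G} (hT : IsPGroup p ↥T) (hTM : T ≤ M)
    (hNM : normalizer (T : Set G) ≤ M) (hM : CP p ↥M) : CP p ↥(normalizer (T : Set G)) := by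
  have h := cp_normalizer_of_centralizer (B := T.subgroupOf M) hT.comap_subtype
    (cp_centralizer hM hT.comap_subtype)
  rw [normalizer_subgroupOf_eq hTM] at h
  exact cp_congr (subgroupOfEquivOfLe hNM) h

/-- If `z` is a `p`-element of `Z(T)` and `C(z)` is `p`-constrained, so is `N(T)`. -/
theorem isPConstrained_normalizer_of_centralizer_elem {T : Subgroup G} {z : G}
    (hT : IsPGroup p ↥T) (hzT : z ∈ T) (hz : ∀ x ∈ T, Commute x z)
    (hC : IsPConstrained p ↥(centralizer ({z} : Set G))) :
    IsPConstrained p ↥(normalizer (T : Set G)) := by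
  set M := centralizer ({z} : Set G) with hMdef
  have hTM : T ≤ M := fun x hx => mem_centralizer_singleton_iff.2 (hz x hx)
  have hCM : centralizer (T : Set G) ≤ M := centralizer_le (by simpa using hzT)
  have h1 := PCore.isPConstrained_centralizer hC (P := T.subgroupOf M) hT.comap_subtype
  have he : centralizer ((T.subgroupOf M : Subgroup ↥M) : Set ↥M) = (centralizer (T : Set G)).subgroupOf M := by
    ext c
    simp only [mem_subgroupOf, mem_centralizer_iff, SetLike.mem_coe]
    exact ⟨fun hc x hx => congrArg Subtype.val (hc ⟨x, hTM hx⟩ hx), fun hc x hx => Subtype.ext (hc _ hx)⟩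
  rw [he] at h1
  have h2 : IsPConstrained p ↥(centralizer (T : Set G)) :=
    PCore.isPConstrained_of_equiv (subgroupOfEquivOfLe hCM) h1
  set N := normalizer (T : Set G) with hN
  have : (T.subgroupOf N).Normal := normal_in_normalizer
  refine isPConstrained_of_centralizer (T := T.subgroupOf N) hT.comap_subtype ?_
  have hCN : centralizer (T : Set G) ≤ N := centralizer_le_normalizer _
  have he' : centralizer ((T.subgroupOf N : Subgroup ↥N) : Set ↥N) = (centralizer (T : Set G)).subgroupOf N := by
    ext c
    simp only [mem_subgroupOf, mem_centralizer_iff, SetLike.mem_coe]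
    exact ⟨fun hc x hx => congrArg Subtype.val (hc ⟨x, le_normalizer hx⟩ hx), fun hc x hx => Subtype.ext (hc _ hx)⟩
  rw [he']
  exact PCore.isPConstrained_of_equiv (subgroupOfEquivOfLe hCN).symm h2

/-- Characteristic `p` implies `p`-constraint. -/
theorem isPConstrained_of_cp (h : CP p G) : IsPConstrained p G :=
  (PCore.isPConstrained_of_pPrimeCore_eq_bot_iff (PCore.pPrimeCore_eq_bot_of_cp h)).2 h

/-- A `p`-constrained group with trivial `p'`-core has characteristic `p`. -/
theorem cp_of_isPConstrained (h : IsPConstrained p G) (hO : pPrimeCore p G = ⊥) : CP p G :=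
  (PCore.isPConstrained_of_pPrimeCore_eq_bot_iff hO).1 h

end Cfsg.Agent.LocalChar
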