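import Cfsg.Prelude.Def_LocalStructure
import Cfsg.Prelude.Def_PLocal
import Cfsg.Agent.Lib.LocalChar.Basic
import Cfsg.Agent.Lib.PGroup.Basic
import Cfsg.Agent.Lib.PGroup.ElementaryAbelian

/-!
Parabolic characteristic `p` through centralisers of central elements of order `p`.

* `exists_central_mem`: a nontrivial `p`-subgroup normalised by a Sylow subgroup meets its centre
* `parabolic_iff`, `parabolic_iff_omega`
-/

set_option autoImplicit false

namespace Cfsg.Agent.LocalChar

open Subgroup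

variable {G : Type*} [Group G] {p : ℕ}

theorem exists_central_mem [Finite G] [Fact p.Prime] (T : Sylow p G) {R : Subgroup G}
    (hR : IsPGroup p ↥R) (hne : R ≠ ⊥) (hTR : (T : Subgroup G) ≤ normalizer (R : Set G)) :
    ∃ z, z ∈ R ∧ z ∈ (T : Subgroup G) ∧ orderOf z = p ∧ ∀ t ∈ (T : Subgroup G), Commute t z := by
  have hRT : R ≤ (T : Subgroup G) := by
    rw [← T.is_maximal' (T.2.to_sup_of_normal_right' hR hTR) le_sup_left]
    exact le_sup_right
  have hnorm : (R.subgroupOf (T : Subgroup G)).Normal :=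
    ⟨fun a ha g => (mem_normalizer_iff.1 (hTR g.2) a).1 ha⟩
  have hne' : R.subgroupOf (T : Subgroup G) ≠ ⊥ := fun h =>
    hne (eq_bot_iff.2 fun r hr => by
      have h1 : (⟨r, hRT hr⟩ : ↥(T : Subgroup G)) ∈ R.subgroupOf (T : Subgroup G) := hr
      rw [h, mem_bot] at h1
      exact mem_bot.2 (congrArg Subtype.val h1))
  obtain ⟨z, hzR, hzc, hz⟩ :=
    PGroup.exists_orderOf_eq_mem_center T.2 (R.subgroupOf (T : Subgroup G)) hne'
  exact ⟨z, hzR, z.2, by rw [Subgroup.orderOf_coe]; exact hz,
    fun t ht => congrArg Subtype.val (mem_center_iff.1 hzc ⟨t, ht⟩)⟩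

theorem cp_centralizer_conj [Finite G] {z : G} (g : G)
    (h : CP p ↥(centralizer ({g * z * g⁻¹} : Set G))) : CP p ↥(centralizer ({z} : Set G)) := by
  have he : (centralizer ({g * z * g⁻¹} : Set G)).map (MulAut.conj g⁻¹).toMonoidHom =
      centralizer ({z} : Set G) := by
    ext x
    constructor
    · rintro ⟨y, hy, rfl⟩
      have h1 := mem_centralizer_singleton_iff.1 hy
      apply mem_centralizer_singleton_iff.2
      calc (g⁻¹ * y * g⁻¹⁻¹) * z = g⁻¹ * (y * (g * z * g⁻¹)) * g := by group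
        _ = g⁻¹ * ((g * z * g⁻¹) * y) * g := by rw [h1]
        _ = z * (g⁻¹ * y * g⁻¹⁻¹) := by group
    · intro hx
      have h1 := mem_centralizer_singleton_iff.1 hx
      refine ⟨g * x * g⁻¹, mem_centralizer_singleton_iff.2 ?_, by simp [mul_assoc]⟩
      calc (g * x * g⁻¹) * (g * z * g⁻¹) = g * (x * z) * g⁻¹ := by group
        _ = g * (z * x) * g⁻¹ := by rw [h1]
        _ = (g * z * g⁻¹) * (g * x * g⁻¹) := by group
  exact cp_congr (((centralizer ({g * z * g⁻¹} : Set G)).equivMapOfInjective _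
    (MulAut.conj g⁻¹).injective).trans (MulEquiv.subgroupCongr he)) h

/-- `G` has parabolic characteristic `p` iff the centralisers of the central elements of order `p`
of one Sylow subgroup have characteristic `p`. -/
theorem parabolic_iff [Finite G] [hp : Fact p.Prime] (S : Sylow p G) :
    Cfsg.IsOfParabolicCharacteristic p G ↔ ∀ z : G, orderOf z = p → z ∈ (S : Subgroup G) →
      (∀ s ∈ (S : Subgroup G), Commute s z) → CP p ↥(centralizer ({z} : Set G)) := by
  constructor
  · intro h z hz hzS hcomm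
    have hzp : IsPGroup p ↥(zpowers z) := S.2.to_le (zpowers_le.2 hzS)
    have hne : zpowers z ≠ ⊥ := fun hb => by
      rw [zpowers_eq_bot] at hb
      rw [hb, orderOf_one] at hz
      exact hp.out.ne_one hz.symm
    have hcz : centralizer (zpowers z : Set G) = centralizer ({z} : Set G) := by
      rw [zpowers_eq_closure, centralizer_closure]
    have hSN : (S : Subgroup G) ≤ normalizer (zpowers z : Set G) :=
      le_trans (fun s hs => mem_centralizer_singleton_iff.2 (hcomm s hs))
        (hcz.ge.trans (centralizer_le_normalizer _))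
    rw [← hcz]
    exact cp_centralizer_of_le (h _ hzp hne ⟨S, hSN⟩) hzp le_normalizer
      (centralizer_le_normalizer _)
  · intro h R hR hne ⟨T, hT⟩
    obtain ⟨z, hzR, hzT, hz, hcomm⟩ := exists_central_mem T hR hne hT
    obtain ⟨g, hg⟩ := MulAction.exists_smul_eq G T S
    have hmemS : ∀ t ∈ (T : Subgroup G), g * t * g⁻¹ ∈ (S : Subgroup G) := by
      intro t ht
      rw [← hg, Sylow.coe_subgroup_smul]
      exact Subgroup.smul_mem_pointwise_smul _ _ _ ht
    have hST : ∀ s ∈ (S : Subgroup G), g⁻¹ * s * g ∈ (T : Subgroup G) := by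
      intro s hs
      rw [← hg, Sylow.coe_subgroup_smul, mem_pointwise_smul_iff_inv_smul_mem] at hs
      simpa [MulAut.smul_def] using hs
    refine cp_normalizer_of_centralizer_elem hR hzR (fun x hx => ?_) (cp_centralizer_conj g
      (h (g * z * g⁻¹) ?_ (hmemS z hzT) fun s hs => ?_))
    · have hRT : R ≤ (T : Subgroup G) := by
        rw [← T.is_maximal' (T.2.to_sup_of_normal_right' hR hT) le_sup_left]
        exact le_sup_right
      exact hcomm x (hRT hx)
    · rw [show g * z * g⁻¹ = MulAut.conj g z from rfl, MulEquiv.orderOf_eq]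
      exact hz
    · have h1 := (hcomm _ (hST s hs)).eq
      show s * (g * z * g⁻¹) = g * z * g⁻¹ * s
      calc s * (g * z * g⁻¹) = g * (g⁻¹ * s * g * z) * g⁻¹ := by group
        _ = g * (z * (g⁻¹ * s * g)) * g⁻¹ := by rw [h1]
        _ = g * z * g⁻¹ * s := by group

theorem isMulCommutative_inf_centralizer (S : Subgroup G) :
    IsMulCommutative ↥(S ⊓ centralizer (S : Set G)) :=
  PGroup.isMulCommutative_of_forall fun _ ha _ hb => mem_centralizer_iff.1 hb.2 _ ha.1

theorem mem_omegaOne_center_iff [hp : Fact p.Prime] (S : Subgroup G) {z : G} :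
    (z ≠ 1 ∧ z ∈ Cfsg.omegaOne p (S ⊓ centralizer (S : Set G))) ↔
      orderOf z = p ∧ z ∈ S ∧ ∀ s ∈ S, Commute s z := by
  constructor
  · rintro ⟨hne, hz⟩
    have h1 := PGroup.omegaOne_le _ hz
    exact ⟨orderOf_eq_prime
      ((PGroup.isElementaryAbelian_omegaOne (isMulCommutative_inf_centralizer S)).2 z hz) hne,
      h1.1, fun s hs => mem_centralizer_iff.1 h1.2 s hs⟩
  · rintro ⟨hz, hzS, hc⟩
    refine ⟨fun h => ?_, PGroup.mem_omegaOne_of_pow_eq_one
      ⟨hzS, mem_centralizer_iff.2 fun s hs => (hc s hs).eq⟩ (hz ▸ pow_orderOf_eq_one z)⟩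
    rw [h, orderOf_one] at hz
    exact hp.out.ne_one hz.symm

theorem parabolic_iff_omega [Finite G] [Fact p.Prime] (S : Sylow p G) :
    Cfsg.IsOfParabolicCharacteristic p G ↔ ∀ z : G, z ≠ 1 →
      z ∈ Cfsg.omegaOne p ((S : Subgroup G) ⊓ centralizer ((S : Subgroup G) : Set G)) →
      CP p ↥(centralizer ({z} : Set G)) := by
  rw [parabolic_iff S]
  constructor
  · intro h z hne hz
    obtain ⟨h1, h2, h3⟩ := (mem_omegaOne_center_iff _).1 ⟨hne, hz⟩
    exact h z h1 h2 h3
  · intro h z h1 h2 h3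
    obtain ⟨hne, hz⟩ := (mem_omegaOne_center_iff _).2 ⟨h1, h2, h3⟩
    exact h z hne hz

end Cfsg.Agent.LocalChar
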