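import Cfsg.Prelude.Def_OddOrderLocal
import Cfsg.Prelude.Def_CaseTheorems
import Cfsg.Agent.Lib.LocalChar.Descent
import Cfsg.Agent.Lib.LocalChar.Parabolic
import Cfsg.Agent.Lib.Coprime.Generation
import Cfsg.Agent.Lib.PGroup.Basic
import Cfsg.Agent.Lib.Invol.Basic

/-!
# Characteristic 2 type from a normal elementary abelian subgroup of rank 3

`TwoType.Conf S E`: `E` is an elementary abelian subgroup of order at least 8 normal in the Sylow
2-subgroup `S`, `S` normalises no nontrivial subgroup of odd order, all 2-locals are 2-constrained.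

* `TwoType.eq_bot_of_invariant`: `C_S(E)` normalises no nontrivial subgroup of odd order
* `TwoType.cp_centralizer_involution`, `TwoType.cp_normalizer`: all 2-locals have characteristic 2
  (no transitivity theorem, signalizer functors or Z* needed)
-/

set_option autoImplicit false
set_option linter.style.haveILetI false
set_option linter.unusedSectionVars false

open scoped commutatorElement

namespace Cfsg.Agent.TwoType

open Subgroup

variable {G : Type*} [Group G] [Finite G]

/-- The hypotheses. -/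
structure Conf (S : Sylow 2 G) (E : Subgroup G) : Prop where
  le : E ≤ (S : Subgroup G)
  normal : (S : Subgroup G) ≤ normalizer (E : Set G)
  comm : ∀ a ∈ E, ∀ b ∈ E, a * b = b * a
  sq : ∀ a ∈ E, a * a = 1
  card : 8 ≤ Nat.card E
  inv : ∀ X : Subgroup G, Odd (Nat.card X) → (S : Subgroup G) ≤ normalizer (X : Set G) → X = ⊥
  con : ∀ T : Subgroup G, IsPGroup 2 T → T ≠ ⊥ → Cfsg.IsPConstrained 2 ↥(normalizer (T : Set G))

theorem isPGroup_zpowers {w : G} (hw : orderOf w = 2) : IsPGroup 2 (zpowers w) :=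
  IsPGroup.of_card (n := 1) (by rw [Nat.card_zpowers, hw, pow_one])

theorem zpowers_ne_bot {w : G} (hw : orderOf w = 2) : zpowers w ≠ ⊥ := by
  rw [Ne, zpowers_eq_bot]
  exact Invol.ne_one_of_orderOf_two hw

/-- The normalizer of a group of order two is the centralizer. -/
theorem normalizer_zpowers {w : G} (hw : orderOf w = 2) :
    normalizer (zpowers w : Set G) = centralizer ({w} : Set G) := by
  refine le_antisymm (fun g hg => ?_) ?_
  · rw [mem_centralizer_singleton_iff]
    have h := (mem_normalizer_iff.1 hg w).1 (mem_zpowers w)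
    obtain ⟨k, hk⟩ := mem_zpowers_iff.1 h
    rw [← zpow_mod_orderOf, hw] at hk
    rcases Int.emod_two_eq_zero_or_one k with h' | h'
    · rw [show k % ((2 : ℕ) : ℤ) = 0 from h', zpow_zero, eq_comm, mul_inv_eq_one] at hk
      exact absurd (mul_eq_left.1 hk) (Invol.ne_one_of_orderOf_two hw)
    · rw [show k % ((2 : ℕ) : ℤ) = 1 from h', zpow_one, eq_mul_inv_iff_mul_eq] at hk
      exact hk.symm
  · rw [← centralizer_closure, ← zpowers_eq_closure]
    exact centralizer_le_normalizer _

theorem isPConstrained_centralizer {S : Sylow 2 G} {E : Subgroup G} (hc : Conf S E) {w : G}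
    (hw : orderOf w = 2) : Cfsg.IsPConstrained 2 ↥(centralizer ({w} : Set G)) := by
  have h := hc.con _ (isPGroup_zpowers hw) (zpowers_ne_bot hw)
  rwa [normalizer_zpowers hw] at h

theorem odd_core_map {H : Subgroup G} : Odd (Nat.card ((Cfsg.pPrimeCore 2 H).map H.subtype)) := by
  rw [card_map_of_injective H.subtype_injective]
  exact PCore.odd_card_oddCore

theorem le_normalizer_core {H X : Subgroup G} (hX : X ≤ H) :
    X ≤ normalizer ((Cfsg.pPrimeCore 2 H).map H.subtype : Set G) := by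
  intro x hx
  have h : (⟨x, hX hx⟩ : H) ∈ normalizer (Cfsg.pPrimeCore 2 H : Set H) := by
    rw [normalizer_eq_top]; exact mem_top _
  exact le_normalizer_map H.subtype ⟨_, h, rfl⟩

/-- A constrained local subgroup containing `S` has characteristic 2. -/
theorem cp_of_sylow_le {S : Sylow 2 G} {E : Subgroup G} (hc : Conf S E) {H : Subgroup G}
    (hSH : (S : Subgroup G) ≤ H) (hH : Cfsg.IsPConstrained 2 H) : LocalChar.CP 2 H := by
  haveI : Fact (Nat.Prime 2) := ⟨Nat.prime_two⟩
  refine LocalChar.cp_of_isPConstrained hH ?_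
  have h := hc.inv _ odd_core_map (le_normalizer_core hSH)
  rwa [map_eq_bot_iff_of_injective _ H.subtype_injective] at h

/-- `O₂` of a subgroup containing `S`, inside `G`. -/
theorem pCore_le_of_sylow_le {S : Sylow 2 G} {H : Subgroup G} (hSH : (S : Subgroup G) ≤ H) :
    (Cfsg.pCore 2 H).map H.subtype ≤ (S : Subgroup G) := by
  haveI : Fact (Nat.Prime 2) := ⟨Nat.prime_two⟩
  rintro _ ⟨x, hx, rfl⟩
  have h := PCore.pCore_le_sylow (S.subtype hSH) hx
  exact h

theorem commute_of_mem_of_coprime {P Y : Subgroup G} (hP : IsPGroup 2 P) (hY : Odd (Nat.card Y))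
    {a y : G} (ha : a * y * a⁻¹ * y⁻¹ ∈ Y) (hy : a * y * a⁻¹ * y⁻¹ ∈ P) : Commute a y := by
  haveI : Fact (Nat.Prime 2) := ⟨Nat.prime_two⟩
  have h : a * y * a⁻¹ * y⁻¹ = 1 :=
    disjoint_def.1 (PCore.disjoint_of_isPGroup_of_coprime hP (Nat.coprime_two_right.2 hY)) hy ha
  rw [mul_inv_eq_one, mul_inv_eq_iff_eq_mul] at h
  exact h

theorem not_two_dvd_orderOf {Y : Subgroup G} (hY : Odd (Nat.card Y)) {y : G} (hy : y ∈ Y) :
    ¬ 2 ∣ orderOf y := fun h =>
  Nat.not_even_iff_odd.2 hY (even_iff_two_dvd.2 (h.trans (Subgroup.orderOf_dvd_natCard Y hy)))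

/-- First step: odd `E`-invariant subgroups centralised by a central involution centralise `E`. -/
theorem le_centralizer_of_invariant {S : Sylow 2 G} {E : Subgroup G} (hc : Conf S E) {z : G}
    (hz : orderOf z = 2) (hSz : (S : Subgroup G) ≤ centralizer ({z} : Set G)) {Y : Subgroup G}
    (hY : Odd (Nat.card Y)) (hEY : E ≤ normalizer (Y : Set G))
    (hYz : Y ≤ centralizer ({z} : Set G)) : Y ≤ centralizer (E : Set G) := by
  haveI : Fact (Nat.Prime 2) := ⟨Nat.prime_two⟩
  set H := centralizer ({z} : Set G) with hH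
  have hcp : LocalChar.CP 2 H := cp_of_sylow_le hc hSz (isPConstrained_centralizer hc hz)
  set P := (Cfsg.pCore 2 H).map H.subtype with hP
  have hPS : P ≤ (S : Subgroup G) := pCore_le_of_sylow_le hSz
  have hPp : IsPGroup 2 P := S.2.to_le hPS
  have hPn : H ≤ normalizer (P : Set G) := fun x hx => by
    have h : (⟨x, hx⟩ : H) ∈ normalizer (Cfsg.pCore 2 H : Set H) := by
      rw [normalizer_eq_top]; exact mem_top _
    exact le_normalizer_map H.subtype ⟨_, h, rfl⟩
  have hEH : E ≤ H := hc.le.trans hSz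
  have hEP : ∀ f ∈ E, f ∈ P → ∀ y ∈ Y, Commute f y := fun f hfE hfP y hy => by
    refine commute_of_mem_of_coprime hPp hY (mul_mem ?_ (inv_mem hy)) ?_
    · exact (mem_normalizer_iff.1 (hEY hfE) y).1 hy
    · have h := (mem_normalizer_iff.1 (hPn (hYz hy)) f⁻¹).1 (inv_mem hfP)
      have e : f * y * f⁻¹ * y⁻¹ = f * (y * f⁻¹ * y⁻¹) := by group
      rw [e]
      exact mul_mem hfP h
  have hcomm : ∀ e ∈ E, ∀ x ∈ P, e * x * e⁻¹ * x⁻¹ ∈ E ∧ e * x * e⁻¹ * x⁻¹ ∈ P :=
    fun e he x hx => by
      refine ⟨?_, mul_mem ((mem_normalizer_iff.1 (hPn (hEH he)) x).1 hx) (inv_mem hx)⟩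
      have h := (mem_normalizer_iff.1 (hc.normal (hPS hx)) e⁻¹).1 (inv_mem he)
      have e' : e * x * e⁻¹ * x⁻¹ = e * (x * e⁻¹ * x⁻¹) := by group
      rw [e']
      exact mul_mem he h
  intro y hy
  rw [mem_centralizer_iff]
  intro e he
  set y₀ := y * e * y⁻¹ * e⁻¹ with hy₀
  have hy₀Y : y₀ ∈ Y := by
    have h := (mem_normalizer_iff.1 (hEY he) y⁻¹).1 (inv_mem hy)
    have e' : y₀ = y * (e * y⁻¹ * e⁻¹) := by rw [hy₀]; group
    rw [e']
    exact mul_mem hy h
  have hy₀H : y₀ ∈ H := hYz hy₀Y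
  have hb : (⟨y₀, hy₀H⟩ : H) = 1 := by
    refine LocalChar.cp_elim hcp ?_ (by rw [Subgroup.orderOf_mk]; exact not_two_dvd_orderOf hY hy₀Y)
    rintro ⟨x, hxH⟩ hx
    have hxP : x ∈ P := ⟨⟨x, hxH⟩, hx, rfl⟩
    refine Subtype.ext (show y₀ * x = x * y₀ from ?_)
    set k := y₀ * x * y₀⁻¹ * x⁻¹ with hk
    have hkEP : k ∈ E ∧ k ∈ P := by
      obtain ⟨hf1, hf2⟩ := hcomm e⁻¹ (inv_mem he) x hxP
      set x' := y⁻¹ * (e⁻¹ * x * e) * y with hx'
      have hx'P : x' ∈ P := by
        have h1 := (mem_normalizer_iff.1 (hPn (hEH (inv_mem he))) x).1 hxP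
        have h2 := (mem_normalizer_iff.1 (hPn (inv_mem (hYz hy))) _).1 h1
        rw [inv_inv] at h2
        simpa [hx', mul_assoc] using h2
      obtain ⟨hg1, hg2⟩ := hcomm e he x' hx'P
      have e1 : k = (e * x' * e⁻¹ * x'⁻¹) * (e⁻¹ * x * e⁻¹⁻¹ * x⁻¹) := by
        set g' := e * x' * e⁻¹ * x'⁻¹ with hg'
        have hgy : y * g' * y⁻¹ = g' := by
          rw [← (hEP g' hg1 hg2 y hy).eq]; group
        calc k = y * (e * x' * e⁻¹) * y⁻¹ * x⁻¹ := by rw [hk, hy₀, hx']; group
          _ = y * (g' * x') * y⁻¹ * x⁻¹ := by rw [hg']; group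
          _ = (y * g' * y⁻¹) * (y * x' * y⁻¹) * x⁻¹ := by group
          _ = g' * (y * x' * y⁻¹) * x⁻¹ := by rw [hgy]
          _ = g' * (e⁻¹ * x * e⁻¹⁻¹ * x⁻¹) := by rw [hx']; group
      rw [e1]
      exact ⟨mul_mem hg1 hf1, mul_mem hg2 hf2⟩
    exact (LocalChar.commute_of_commute_commutator hPp Nat.prime_two (not_two_dvd_orderOf hY hy₀Y)
      hkEP.2 (hEP k hkEP.1 hkEP.2 y₀ hy₀Y).symm).eq
  have hy1 : y₀ = 1 := congrArg Subtype.val hb
  rw [hy₀, mul_inv_eq_one, mul_inv_eq_iff_eq_mul] at hy1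
  exact hy1.symm

/-- Odd `C_S(E)`-invariant subgroups meet centralizers of central involutions trivially. -/
theorem inf_centralizer_eq_bot {S : Sylow 2 G} {E : Subgroup G} (hc : Conf S E) {z : G}
    (hz : orderOf z = 2) (hzS : z ∈ (S : Subgroup G))
    (hSz : (S : Subgroup G) ≤ centralizer ({z} : Set G)) {X : Subgroup G}
    (hX : Odd (Nat.card X))
    (hDX : (S : Subgroup G) ⊓ centralizer (E : Set G) ≤ normalizer (X : Set G)) :
    X ⊓ centralizer ({z} : Set G) = ⊥ := by
  haveI : Fact (Nat.Prime 2) := ⟨Nat.prime_two⟩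
  set D := (S : Subgroup G) ⊓ centralizer (E : Set G) with hD
  set Y := X ⊓ centralizer ({z} : Set G) with hY
  have hYodd : Odd (Nat.card Y) := hX.of_dvd_nat (card_dvd_of_le inf_le_left)
  have hDY : D ≤ normalizer (Y : Set G) :=
    (le_inf hDX (inf_le_left.trans (hSz.trans le_normalizer))).trans inf_normalizer_le_normalizer_inf
  have hED : E ≤ D := le_inf hc.le fun a ha => mem_centralizer_iff.2 fun b hb => hc.comm b hb a ha
  have hYE : Y ≤ centralizer (E : Set G) :=
    le_centralizer_of_invariant hc hz hSz hYodd (hED.trans hDY) inf_le_right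
  -- inside `N(E)` the centralizer of `E` has characteristic two
  set N := normalizer (E : Set G) with hN
  have hEbot : E ≠ ⊥ := fun h => by
    have := hc.card; rw [h, card_bot] at this; omega
  have hcpN : LocalChar.CP 2 N :=
    cp_of_sylow_le hc hc.normal (hc.con E (S.2.to_le hc.le) hEbot)
  set C := centralizer (E : Set G) with hC
  have hCN : C ≤ N := centralizer_le_normalizer _
  have hCn : (C.subgroupOf N).Normal := normal_subgroupOf_of_le_normalizer (by
    intro g hg
    rw [mem_normalizer_iff]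
    have key : ∀ g ∈ N, ∀ c ∈ C, g * c * g⁻¹ ∈ C := fun g hg c hc' => by
      rw [hC, mem_centralizer_iff]
      intro a ha
      have ha' := (mem_normalizer_iff''.1 hg a).1 ha
      have := mem_centralizer_iff.1 hc' _ ha'
      calc a * (g * c * g⁻¹) = g * ((g⁻¹ * a * g) * c) * g⁻¹ := by group
        _ = g * (c * (g⁻¹ * a * g)) * g⁻¹ := by rw [this]
        _ = g * c * g⁻¹ * a := by group
    intro c
    refine ⟨key g hg c, fun h => ?_⟩
    have h2 := key g⁻¹ (inv_mem hg) _ h
    simpa [mul_assoc] using h2)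
  have hcpC : LocalChar.CP 2 C := LocalChar.cp_of_normal_subgroupOf hcpN hCN hCn
  set P := (Cfsg.pCore 2 C).map C.subtype with hP
  have hPD : P ≤ D := by
    refine le_inf ?_ (map_subtype_le _)
    refine fun x hx => pCore_le_of_sylow_le hc.normal ?_
    obtain ⟨x, hx', rfl⟩ := hx
    have h1 := LocalChar.map_pCore_le_of_normal hCn (p := 2)
    have h2 : (⟨⟨x, hCN x.2⟩, x.2⟩ : C.subgroupOf N) ∈ Cfsg.pCore 2 (C.subgroupOf N) :=
      LocalChar.pCore_le_comap_equiv (subgroupOfEquivOfLe hCN).symm 2 hx'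
    exact ⟨_, h1 ⟨_, h2, rfl⟩, rfl⟩
  rw [eq_bot_iff]
  intro y hy
  have hb : (⟨y, hYE hy⟩ : C) = 1 := by
    refine LocalChar.cp_elim hcpC ?_ (by rw [Subgroup.orderOf_mk]; exact not_two_dvd_orderOf hYodd hy)
    rintro ⟨x, hxC⟩ hx
    have hxP : x ∈ P := ⟨⟨x, hxC⟩, hx, rfl⟩
    refine Subtype.ext (show y * x = x * y from ?_)
    refine (commute_of_mem_of_coprime (P := P) (S.2.to_le (hPD.trans inf_le_left)) hYodd ?_ ?_).symm
    · exact mul_mem ((mem_normalizer_iff.1 (hDY (hPD hxP)) y).1 hy) (inv_mem hy)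
    · have hn : y ∈ normalizer (P : Set G) := le_normalizer_map C.subtype
        ⟨⟨y, hYE hy⟩, (by rw [normalizer_eq_top]; exact mem_top _), rfl⟩
      have h := (mem_normalizer_iff.1 hn x⁻¹).1 (inv_mem hxP)
      have e : x * y * x⁻¹ * y⁻¹ = x * (y * x⁻¹ * y⁻¹) := by group
      rw [e]
      exact mul_mem hxP h
  rw [mem_bot]
  exact congrArg Subtype.val hb

/-- An involution acting without fixed points on a group of odd order inverts it. -/
theorem conj_eq_inv {X : Subgroup G} {z : G} (hz : orderOf z = 2) (hzX : z ∈ normalizer (X : Set G))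
    (hfix : X ⊓ centralizer ({z} : Set G) = ⊥) {x : G} (hx : x ∈ X) : z * x * z⁻¹ = x⁻¹ := by
  have hzz := Invol.mul_self_of_orderOf_two hz
  have hzi := Invol.inv_of_orderOf_two hz
  let f : X → X := fun u => ⟨(u : G)⁻¹ * (z * (u : G) * z⁻¹),
    mul_mem (inv_mem u.2) ((mem_normalizer_iff.1 hzX _).1 u.2)⟩
  have hinj : Function.Injective f := fun u v h => by
    have h' : (u : G)⁻¹ * (z * u * z⁻¹) = (v : G)⁻¹ * (z * v * z⁻¹) := congrArg Subtype.val h
    have h1 : (v : G) * (u : G)⁻¹ ∈ X ⊓ centralizer ({z} : Set G) := by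
      refine mem_inf.2 ⟨mul_mem v.2 (inv_mem u.2), mem_centralizer_singleton_iff.2 ?_⟩
      calc (v : G) * (u : G)⁻¹ * z = v * ((u : G)⁻¹ * (z * u * z⁻¹)) * z * (u : G)⁻¹ := by group
        _ = v * ((v : G)⁻¹ * (z * v * z⁻¹)) * z * (u : G)⁻¹ := by rw [h']
        _ = z * ((v : G) * (u : G)⁻¹) := by group
    rw [hfix, mem_bot, mul_inv_eq_one] at h1
    exact Subtype.ext h1.symm
  obtain ⟨u, hu⟩ := (Finite.injective_iff_surjective.1 hinj) ⟨x, hx⟩
  have hu' : (u : G)⁻¹ * (z * u * z⁻¹) = x := congrArg Subtype.val hu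
  rw [← hu']
  calc z * ((u : G)⁻¹ * (z * u * z⁻¹)) * z⁻¹ = z * (u : G)⁻¹ * z * u * (z⁻¹ * z⁻¹) := by group
    _ = z * (u : G)⁻¹ * z⁻¹ * u := by rw [hzi, hzz, mul_one]
    _ = ((u : G)⁻¹ * (z * u * z⁻¹))⁻¹ := by group

theorem exists_central {S : Sylow 2 G} {E : Subgroup G} (hc : Conf S E) {K : Subgroup G}
    (hKS : K ≤ (S : Subgroup G)) (hSK : (S : Subgroup G) ≤ normalizer (K : Set G)) (hK : K ≠ ⊥) :
    ∃ z ∈ K, orderOf z = 2 ∧ (S : Subgroup G) ≤ centralizer ({z} : Set G) := by
  haveI : Fact (Nat.Prime 2) := ⟨Nat.prime_two⟩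
  haveI : (K.subgroupOf (S : Subgroup G)).Normal := normal_subgroupOf_of_le_normalizer hSK
  obtain ⟨z, hz, hzc, hzo⟩ := PGroup.exists_orderOf_eq_mem_center S.2 (K.subgroupOf S) (by
    rw [Ne, subgroupOf_eq_bot, disjoint_iff, inf_of_le_left hKS]; exact hK)
  refine ⟨z, hz, (Subgroup.orderOf_coe z).trans hzo, fun s hs => ?_⟩
  exact mem_centralizer_singleton_iff.2 (congrArg Subtype.val (mem_center_iff.1 hzc ⟨s, hs⟩))

theorem ne_bot {S : Sylow 2 G} {E : Subgroup G} (hc : Conf S E) : E ≠ ⊥ := fun h => by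
  have := hc.card; rw [h, card_bot] at this; omega

/-- A subgroup with cyclic complement in `E` has index at most two. -/
theorem card_le_two_mul {S : Sylow 2 G} {E B : Subgroup G} (hc : Conf S E) (hB : B ≤ E) {a : G}
    (ha : a ∈ E) (hBa : B ⊔ zpowers a = E) : Nat.card E ≤ 2 * Nat.card B := by
  have hn : B ≤ normalizer (zpowers a : Set G) := fun c hc' => by
    refine (centralizer_le_normalizer _) (mem_centralizer_iff.2 fun v hv => ?_)
    exact hc.comm v ((zpowers_le.2 ha) hv) c (hB hc')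
  have hsurj : Function.Surjective (fun w : B × zpowers a =>
      (⟨(w.1 : G) * w.2, mul_mem (hB w.1.2) ((zpowers_le.2 ha) w.2.2)⟩ : E)) := by
    rintro ⟨e, he⟩
    obtain ⟨c, hc', w, hw, rfl⟩ := (Coprime.mem_sup_iff_of_le_normalizer hn).1 (hBa.ge he)
    exact ⟨(⟨c, hc'⟩, ⟨w, hw⟩), rfl⟩
  refine (Nat.card_le_card_of_surjective _ hsurj).trans ?_
  rw [Nat.card_prod, mul_comm, Nat.card_zpowers]
  refine Nat.mul_le_mul_right _ (Nat.le_of_dvd two_pos (orderOf_dvd_of_pow_eq_one ?_))
  rw [pow_two]; exact hc.sq a ha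

theorem inf_ne_bot {S : Sylow 2 G} {E B B' : Subgroup G} (hc : Conf S E) (hB : B ≤ E) (hB' : B' ≤ E)
    (h : Nat.card E ≤ 2 * Nat.card B) (h' : Nat.card E ≤ 2 * Nat.card B') : B ⊓ B' ≠ ⊥ := by
  intro hbot
  have hinj : Function.Injective (fun w : B × B' =>
      (⟨(w.1 : G) * w.2, mul_mem (hB w.1.2) (hB' w.2.2)⟩ : E)) := by
    rintro ⟨b, c⟩ ⟨b', c'⟩ e
    have e' : (b : G) * c = b' * c' := congrArg Subtype.val e
    have h1 : (b' : G)⁻¹ * b ∈ B ⊓ B' := by
      refine mem_inf.2 ⟨mul_mem (inv_mem b'.2) b.2, ?_⟩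
      have : (b' : G)⁻¹ * b = (c' : G) * (c : G)⁻¹ := by
        calc (b' : G)⁻¹ * b = (b' : G)⁻¹ * (b * c) * (c : G)⁻¹ := by group
          _ = (c' : G) * (c : G)⁻¹ := by rw [e']; group
      show (b' : G)⁻¹ * b ∈ B'
      rw [this]
      exact mul_mem c'.2 (inv_mem c.2)
    rw [hbot, mem_bot, inv_mul_eq_one] at h1
    rw [h1] at e'
    exact Prod.ext (Subtype.ext h1.symm) (Subtype.ext (mul_left_cancel e'))
  have hle := Nat.card_le_card_of_injective _ hinj
  rw [Nat.card_prod] at hle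
  have := hc.card
  nlinarith

/-- `C_S(E)` normalises no nontrivial subgroup of odd order. -/
theorem eq_bot_of_invariant {S : Sylow 2 G} {E : Subgroup G} (hc : Conf S E) {X : Subgroup G}
    (hX : Odd (Nat.card X))
    (hDX : (S : Subgroup G) ⊓ centralizer (E : Set G) ≤ normalizer (X : Set G)) : X = ⊥ := by
  classical
  haveI : Fact (Nat.Prime 2) := ⟨Nat.prime_two⟩
  set D := (S : Subgroup G) ⊓ centralizer (E : Set G) with hD
  have hED : E ≤ D := le_inf hc.le fun a ha => mem_centralizer_iff.2 fun b hb => hc.comm b hb a ha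
  obtain ⟨z, hzE, hz, hSz⟩ := exists_central hc hc.le hc.normal (ne_bot hc)
  have hzz := Invol.mul_self_of_orderOf_two hz
  have hDn : ∀ s ∈ (S : Subgroup G), s ∈ normalizer (D : Set G) := fun s hs => by
    refine inf_normalizer_le_normalizer_inf (mem_inf.2 ⟨le_normalizer hs, ?_⟩)
    rw [mem_normalizer_iff]
    have key : ∀ g ∈ normalizer (E : Set G), ∀ c ∈ centralizer (E : Set G),
        g * c * g⁻¹ ∈ centralizer (E : Set G) := fun g hg c hc' => by
      rw [mem_centralizer_iff]
      intro a ha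
      have ha' := (mem_normalizer_iff''.1 hg a).1 ha
      have := mem_centralizer_iff.1 hc' _ ha'
      calc a * (g * c * g⁻¹) = g * ((g⁻¹ * a * g) * c) * g⁻¹ := by group
        _ = g * (c * (g⁻¹ * a * g)) * g⁻¹ := by rw [this]
        _ = g * c * g⁻¹ * a := by group
    intro c
    refine ⟨key s (hc.normal hs) c, fun h => ?_⟩
    have h2 := key s⁻¹ (inv_mem (hc.normal hs)) _ h
    simpa [mul_assoc] using h2
  -- the elements of `D` centralising every invariant subgroup
  by_cases hmove : ∃ n ∈ normalizer (D : Set G), n * z * n⁻¹ ≠ z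
  · obtain ⟨n, hn, hnz⟩ := hmove
    let P : G → Prop := fun d => ∀ Y : Subgroup G, Odd (Nat.card Y) → D ≤ normalizer (Y : Set G) →
      ∀ y ∈ Y, d * y = y * d
    let K : Subgroup G := D ⊓ ⨅ Y : {Y : Subgroup G // Odd (Nat.card Y) ∧ D ≤ normalizer (Y : Set G)},
      centralizer ((Y : Subgroup G) : Set G)
    have hKiff : ∀ d, d ∈ K ↔ d ∈ D ∧ P d := fun d => by
      simp only [K, P, mem_inf, mem_iInf, mem_centralizer_iff]
      exact ⟨fun h => ⟨h.1, fun Y h1 h2 y hy => (h.2 ⟨Y, h1, h2⟩ y hy).symm⟩,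
        fun h => ⟨h.1, fun Y y hy => (h.2 Y.1 Y.2.1 Y.2.2 y hy).symm⟩⟩
    have hconj : ∀ g ∈ normalizer (D : Set G), ∀ d ∈ K, g * d * g⁻¹ ∈ K := fun g hg d hd => by
      rw [hKiff] at hd ⊢
      refine ⟨(mem_normalizer_iff.1 hg d).1 hd.1, fun Y hY hDY y hy => ?_⟩
      have h := hd.2 (Y.map (MulAut.conj g⁻¹).toMonoidHom)
        (by rw [card_map_of_injective (MulAut.conj g⁻¹).injective]; exact hY)
        (fun a ha => by
          have ha' : g * a * g⁻¹ ∈ normalizer (Y : Set G) := hDY ((mem_normalizer_iff.1 hg a).1 ha)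
          refine le_normalizer_map (MulAut.conj g⁻¹).toMonoidHom ⟨_, ha', ?_⟩
          show g⁻¹ * (g * a * g⁻¹) * g⁻¹⁻¹ = a
          group)
        (g⁻¹ * y * g) ⟨y, hy, by show g⁻¹ * y * g⁻¹⁻¹ = _; group⟩
      calc g * d * g⁻¹ * y = g * (d * (g⁻¹ * y * g)) * g⁻¹ := by group
        _ = g * ((g⁻¹ * y * g) * d) * g⁻¹ := by rw [h]
        _ = y * (g * d * g⁻¹) := by group
    have hSK : (S : Subgroup G) ≤ normalizer (K : Set G) := fun s hs => by
      refine mem_normalizer_iff.2 fun d => ⟨hconj s (hDn s hs) d, fun h => ?_⟩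
      have h2 := hconj s⁻¹ (inv_mem (hDn s hs)) _ h
      simpa [mul_assoc] using h2
    have hv : z * (n * z * n⁻¹) ∈ K := by
      rw [hKiff]
      refine ⟨mul_mem (hED hzE) ((mem_normalizer_iff.1 hn z).1 (hED hzE)), fun Y hY hDY y hy => ?_⟩
      have h1 : ∀ u ∈ Y, z * u * z⁻¹ = u⁻¹ := fun u hu => conj_eq_inv hz (hDY (hED hzE))
        (inf_centralizer_eq_bot hc hz (hc.le hzE) hSz hY hDY) hu
      set Y' := Y.map (MulAut.conj n⁻¹).toMonoidHom with hY'
      have hY'o : Odd (Nat.card Y') := by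
        rw [hY', card_map_of_injective (MulAut.conj n⁻¹).injective]; exact hY
      have hDY' : D ≤ normalizer (Y' : Set G) := fun a ha => by
        have ha' : n * a * n⁻¹ ∈ normalizer (Y : Set G) := hDY ((mem_normalizer_iff.1 hn a).1 ha)
        refine le_normalizer_map (MulAut.conj n⁻¹).toMonoidHom ⟨_, ha', ?_⟩
        show n⁻¹ * (n * a * n⁻¹) * n⁻¹⁻¹ = a
        group
      have h2 : ∀ u ∈ Y, (n * z * n⁻¹) * u * (n * z * n⁻¹)⁻¹ = u⁻¹ := fun u hu => by
        have h := conj_eq_inv hz (hDY' (hED hzE))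
          (inf_centralizer_eq_bot hc hz (hc.le hzE) hSz hY'o hDY')
          (x := n⁻¹ * u * n) ⟨u, hu, by show n⁻¹ * u * n⁻¹⁻¹ = _; group⟩
        calc n * z * n⁻¹ * u * (n * z * n⁻¹)⁻¹ = n * (z * (n⁻¹ * u * n) * z⁻¹) * n⁻¹ := by group
          _ = u⁻¹ := by rw [h]; group
      set w := n * z * n⁻¹ with hw
      calc z * w * y = z * (w * y * w⁻¹) * w := by group
        _ = (z * y⁻¹ * z⁻¹) * z * w := by rw [h2 y hy]; group
        _ = y * (z * w) := by rw [h1 _ (inv_mem hy), inv_inv, mul_assoc]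
    have hKne : K ≠ ⊥ := fun h => by
      rw [h, mem_bot, mul_eq_one_iff_inv_eq, Invol.inv_of_orderOf_two hz] at hv
      exact hnz hv.symm
    obtain ⟨z₁, hz₁K, hz₁, hSz₁⟩ := exists_central hc (inf_le_left.trans inf_le_left) hSK hKne
    rw [hKiff] at hz₁K
    have h := inf_centralizer_eq_bot hc hz₁ hz₁K.1.1 hSz₁ hX hDX
    rwa [inf_of_le_left (fun x hx => mem_centralizer_singleton_iff.2 (hz₁K.2 X hX hDX x hx).symm)] at h
  push Not at hmove
  -- invariant subgroups of centralizers lie in the odd core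
  have hcore : ∀ b ∈ E, b ≠ 1 → ∀ Y : Subgroup G, Odd (Nat.card Y) → D ≤ normalizer (Y : Set G) →
      Y ≤ centralizer ({b} : Set G) → Y ≤ Cfsg.centralizerPPrimeCore 2 b := by
    intro b hb hb1 Y hY hDY hYb
    have hbo : orderOf b = 2 := Invol.orderOf_two_of_mul_self (hc.sq b hb) hb1
    set H := centralizer ({b} : Set G) with hH
    have hDH : D ≤ H := fun d hd => mem_centralizer_singleton_iff.2 (mem_centralizer_iff.1 hd.2 b hb).symm
    have hHc := PCore.isPConstrained_iff.mp (isPConstrained_centralizer hc hbo)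
    set f := QuotientGroup.mk' (Cfsg.pPrimeCore 2 H) with hf
    set Pb := Cfsg.pCore 2 (H ⧸ Cfsg.pPrimeCore 2 H) with hPb
    haveI : Pb.Normal := by rw [hPb]; infer_instance
    obtain ⟨T, hT⟩ := ((S.2.to_le (inf_le_left : D ≤ S)).of_equiv
      (subgroupOfEquivOfLe hDH).symm).exists_le_sylow
    set Q : Subgroup H := (T : Subgroup H) ⊓ Pb.comap f with hQ
    have hTQ : (T : Subgroup H) ≤ normalizer (Q : Set H) :=
      (le_inf le_normalizer (by rw [normalizer_eq_top]; exact le_top)).trans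
        inf_normalizer_le_normalizer_inf
    have hQsurj : ∀ p ∈ Pb, ∃ q ∈ Q, f q = p := fun p hp => by
      obtain ⟨q, hq, rfl⟩ := PCore.pCore_le_sylow (T.mapSurjective (QuotientGroup.mk'_surjective _)) hp
      exact ⟨q, ⟨hq, hp⟩, rfl⟩
    have hker : ∀ u : H, u ∈ (T : Subgroup H) → f u = 1 → u = 1 := fun u hu h1 =>
      disjoint_def.1 (PCore.disjoint_of_isPGroup_of_coprime T.2 PCore.coprime_card_pPrimeCore) hu
        ((QuotientGroup.eq_one_iff u).1 h1)
    -- 2-elements of `T` centralising `E` lie in `D`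
    have hCT : ∀ u : H, u ∈ (T : Subgroup H) → (u : G) ∈ centralizer (E : Set G) → (u : G) ∈ D := by
      intro u hu huE
      set U := (T : Subgroup H).map H.subtype ⊓ centralizer (E : Set G) with hU
      have hUp : IsPGroup 2 U := (T.2.map H.subtype).to_le inf_le_left
      have hDU : D ≤ U := le_inf (fun d hd => ⟨⟨d, hDH hd⟩, hT hd, rfl⟩) inf_le_right
      -- `D` is a Sylow subgroup of `C(E)`
      haveI : ((centralizer (E : Set G)).subgroupOf (normalizer (E : Set G))).Normal := by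
        refine ⟨fun c hc' g => mem_subgroupOf.2 (mem_centralizer_iff.2 fun a ha => ?_)⟩
        have ha' := (mem_normalizer_iff''.1 g.2 a).1 ha
        have := mem_centralizer_iff.1 (mem_subgroupOf.1 hc') _ ha'
        show a * ((g : G) * c * (g : G)⁻¹) = (g : G) * c * (g : G)⁻¹ * a
        calc a * ((g : G) * c * (g : G)⁻¹) = (g : G) * (((g : G)⁻¹ * a * g) * c) * (g : G)⁻¹ := by group
          _ = (g : G) * (c * ((g : G)⁻¹ * a * g)) * (g : G)⁻¹ := by rw [this]
          _ = (g : G) * c * (g : G)⁻¹ * a := by group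
      obtain ⟨U₁, hU₁⟩ := (hUp.of_equiv (subgroupOfEquivOfLe
        ((inf_le_right : U ≤ _).trans (centralizer_le_normalizer _))).symm).exists_le_sylow
      obtain ⟨g, hg⟩ := MulAction.exists_smul_eq (normalizer (E : Set G)) U₁ (S.subtype hc.normal)
      have hUD : U.map (MulAut.conj (g : G)).toMonoidHom ≤ D := by
        rintro _ ⟨a, ha, rfl⟩
        refine ⟨?_, ?_⟩
        · have h1 : g * ⟨a, centralizer_le_normalizer _ ha.2⟩ * g⁻¹ ∈
              ((g • U₁ : Sylow 2 (normalizer (E : Set G))) : Subgroup _) :=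
            ⟨_, hU₁ (show (⟨a, centralizer_le_normalizer _ ha.2⟩ : normalizer (E : Set G)) ∈
              U.subgroupOf _ from ha), rfl⟩
          rw [hg] at h1
          exact h1
        · exact Normal.conj_mem (H := (centralizer (E : Set G)).subgroupOf (normalizer (E : Set G)))
            inferInstance ⟨a, centralizer_le_normalizer _ ha.2⟩ ha.2 g
      have hle : Nat.card U ≤ Nat.card D := by
        rw [← card_map_of_injective (K := U) (f := (MulAut.conj (g : G)).toMonoidHom) (MulAut.conj (g : G)).injective]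
        exact Nat.le_of_dvd Nat.card_pos (card_dvd_of_le hUD)
      rw [eq_of_le_of_card_ge hDU hle]
      exact ⟨⟨u, hu, rfl⟩, huE⟩
    have hYn : ∀ y ∈ Y, ∀ d ∈ D, d * y * d⁻¹ ∈ Y := fun y hy d hd =>
      (mem_normalizer_iff.1 (hDY hd) y).1 hy
    -- `Y` commutes with the elements of `D` in `Pb`
    have hPD : ∀ y : H, (y : G) ∈ Y → ∀ d : H, (d : G) ∈ D → f d ∈ Pb → Commute (f d) (f y) := by
      intro y hy d hd hdP
      have h1 : f (d * y * d⁻¹ * y⁻¹) ∈ Pb := by
        have e : d * y * d⁻¹ * y⁻¹ = d * (y * d⁻¹ * y⁻¹) := by group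
        rw [e, map_mul, map_mul, map_mul]
        refine mul_mem hdP ?_
        rw [map_inv, map_inv]
        exact Normal.conj_mem inferInstance _ (inv_mem hdP) _
      have h2 : (d * y * d⁻¹ * y⁻¹ : H) ∈ Y.subgroupOf H :=
        mem_subgroupOf.2 (mul_mem (hYn _ hy _ hd) (inv_mem hy))
      have hYo : Odd (Nat.card ((Y.subgroupOf H).map f)) :=
        (hY.of_dvd_nat (by rw [← Nat.card_congr (subgroupOfEquivOfLe hYb).toEquiv];)).of_dvd_nat
          (card_map_dvd (Y.subgroupOf H) f)
      have h3 := commute_of_mem_of_coprime (PCore.isPGroup_pCore) hYo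
        (a := f d) (y := f y) (by rw [← map_inv, ← map_inv, ← map_mul, ← map_mul, ← map_mul]; exact ⟨_, h2, rfl⟩)
        (by rw [← map_inv, ← map_inv, ← map_mul, ← map_mul, ← map_mul]; exact h1)
      exact h3
    refine (show Y ≤ Cfsg.centralizerPPrimeCore 2 b from ?_)
    haveI : IsMulCommutative E := ⟨⟨fun a c => Subtype.ext (hc.comm a a.2 c c.2)⟩⟩
    have hEcop : (Nat.card E).Coprime (Nat.card Y) := by
      obtain ⟨k, hk⟩ := IsPGroup.iff_card.1 (S.2.to_le hc.le)
      rw [hk]
      exact Nat.Coprime.pow_left _ (Nat.coprime_two_left.2 hY)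
    refine Coprime.le_of_forall_cyclic_quotient (hED.trans hDY) hEcop fun B hB hBa => ?_
    obtain ⟨a, ha, hBa⟩ := hBa
    intro y hy
    obtain ⟨hy, hyB⟩ := hy
    set Y₁ := Y ⊓ centralizer (B : Set G) with hY₁
    have hDY₁ : D ≤ normalizer (Y₁ : Set G) :=
      (le_inf hDY ((show D ≤ centralizer (B : Set G) from fun d hd => mem_centralizer_iff.2 fun c hc' =>
        mem_centralizer_iff.1 hd.2 c (hB hc')).trans le_normalizer)).trans
        inf_normalizer_le_normalizer_inf
    by_cases hzB : z ∈ B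
    · have : y ∈ Y₁ ⊓ centralizer ({z} : Set G) :=
        ⟨⟨hy, hyB⟩, mem_centralizer_singleton_iff.2 (mem_centralizer_iff.1 hyB z hzB).symm⟩
      rw [inf_centralizer_eq_bot hc hz (hc.le hzE) hSz (hY.of_dvd_nat (card_dvd_of_le inf_le_left)) hDY₁,
        mem_bot] at this
      rw [this]; exact one_mem _
    have hBz : B ⊔ zpowers z = E := by
      refine le_antisymm (sup_le hB (zpowers_le.2 hzE)) ?_
      rw [← hBa, sup_le_iff, zpowers_le]
      refine ⟨le_sup_left, ?_⟩
      have hzmem : z ∈ B ⊔ zpowers a := hBa.symm ▸ hzE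
      obtain ⟨c, hc', w, hw, hcw⟩ := (Coprime.mem_sup_iff_of_le_normalizer
        (H := B) (N := zpowers a) (fun c hc' => mem_normalizer_iff.2 fun v => by
          have hcomm : ∀ v ∈ zpowers a, c * v * c⁻¹ = v := fun v hv => by
            rw [hc.comm c (hB hc') v ((zpowers_le.2 ha) hv), mul_inv_cancel_right]
          refine ⟨fun hv => by rw [hcomm v hv]; exact hv, fun hv => ?_⟩
          have : v = c * v * c⁻¹ := by
            have h1 : c * (c * v * c⁻¹) * c⁻¹ = c * v * c⁻¹ := hcomm _ hv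
            exact (mul_left_cancel (mul_right_cancel h1)).symm
          rwa [this])).1 hzmem
      obtain ⟨k, rfl⟩ := mem_zpowers_iff.1 hw
      have hk : a ^ k = 1 ∨ a ^ k = a := by
        rcases Int.even_or_odd k with ⟨i, rfl⟩ | ⟨i, rfl⟩
        · left
          rw [← two_mul, zpow_mul, show a ^ (2 : ℤ) = 1 from (by
            rw [show (2 : ℤ) = ((2 : ℕ) : ℤ) from rfl, zpow_natCast, pow_two, hc.sq a ha]), one_zpow]
        · right
          rw [zpow_add, zpow_one, zpow_mul, show a ^ (2 : ℤ) = 1 from (by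
            rw [show (2 : ℤ) = ((2 : ℕ) : ℤ) from rfl, zpow_natCast, pow_two, hc.sq a ha]), one_zpow, one_mul]
      rcases hk with h | h <;> rw [h] at hcw
      · exact absurd (by rw [mul_one] at hcw; rw [← hcw]; exact hc') hzB
      · rw [show a = c⁻¹ * z by rw [← hcw]; group]
        exact mul_mem (mem_sup_left (inv_mem hc')) (mem_sup_right (mem_zpowers z))
    set yH : H := ⟨y, hYb hy⟩ with hyH
    have hgoal : yH ∈ Cfsg.pPrimeCore 2 H := by
      rw [← QuotientGroup.eq_one_iff]
      refine LocalChar.cp_elim hHc ?_ ?_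
      swap
      · exact fun h => not_two_dvd_orderOf hY hy
          (by rw [← Subgroup.orderOf_mk y (hYb hy)]; exact h.trans (orderOf_map_dvd f yH))
      show ∀ p ∈ Pb, Commute (f yH) p
      set Bb := (B.subgroupOf H).map f with hBb
      have hBH : B ≤ H := (hB.trans hED).trans hDH
      refine LocalChar.thompson_axb (X := Bb) PCore.isPGroup_pCore
        (((S.2.to_le (hB.trans hc.le)).of_equiv (subgroupOfEquivOfLe hBH).symm).map f)
        (by rw [normalizer_eq_top]; exact le_top) (by rw [normalizer_eq_top]; exact mem_top _)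
        (fun h => not_two_dvd_orderOf hY hy
          (by rw [← Subgroup.orderOf_mk y (hYb hy)]; exact h.trans (orderOf_map_dvd f yH))) ?_ ?_
      · rintro _ ⟨c, hc', rfl⟩
        refine Commute.map (Subtype.ext ?_ : Commute yH c) f
        exact (mem_centralizer_iff.1 hyB (c : G) hc').symm
      intro p hp hpB
      obtain ⟨q, hq, rfl⟩ := hQsurj p hp
      suffices hqD : (q : G) ∈ D from (hPD yH hy q hqD hp).symm
      -- `q` centralises `B`
      have hqB : ∀ c ∈ B, c * (q : G) = q * c := fun c hc' => by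
        set cH : H := ⟨c, hBH hc'⟩ with hcH
        have hcT : cH ∈ (T : Subgroup H) := hT (show c ∈ D from hED (hB hc'))
        have h1 : f (cH * q * cH⁻¹ * q⁻¹) = 1 := by
          rw [map_mul, map_mul, map_mul, map_inv, map_inv, (hpB (f cH) ⟨cH, hc', rfl⟩).eq]
          group
        have h2 := hker _ (mul_mem (mul_mem (mul_mem hcT hq.1) (inv_mem hcT)) (inv_mem hq.1)) h1
        rw [mul_inv_eq_one, mul_inv_eq_iff_eq_mul] at h2
        exact congrArg Subtype.val h2
      by_contra hqD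
      set D' := D.subgroupOf H with hD'
      set W : Subgroup H := Q ⊓ centralizer (B.subgroupOf H : Set H) with hW
      have hqW : q ∈ W := ⟨hq, fun c hc' => Subtype.ext (hqB _ hc')⟩
      have hDT : D' ≤ (T : Subgroup H) := hT
      have hDW : D' ≤ normalizer (W : Set H) := by
        refine (le_inf (hDT.trans hTQ) ?_).trans inf_normalizer_le_normalizer_inf
        refine (?_ : D' ≤ centralizer (B.subgroupOf H : Set H)).trans le_normalizer
        exact fun d hd c hc' => Subtype.ext (mem_centralizer_iff.1 (mem_inf.1 hd).2 _ (hB hc'))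
      set T₁ := W ⊔ D' with hT₁
      have hT₁T : T₁ ≤ (T : Subgroup H) := sup_le (inf_le_left.trans inf_le_left) hDT
      have hlt : D'.subgroupOf T₁ ≠ ⊤ := fun h =>
        hqD (subgroupOf_eq_top.1 h (mem_sup_left hqW))
      haveI : Group.IsNilpotent T₁ := (T.2.to_le hT₁T).isNilpotent
      have hstep := Group.normalizerCondition_of_isNilpotent (D'.subgroupOf T₁) (lt_top_iff_ne_top.2 hlt)
      obtain ⟨t, htN, htD⟩ := SetLike.exists_of_lt hstep
      have htB : ∀ c ∈ B, c * ((t : H) : G) = ((t : H) : G) * c := fun c hc' => by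
        have hle : T₁ ≤ centralizer (B.subgroupOf H : Set H) := sup_le inf_le_right
          fun d hd c hc' => Subtype.ext (mem_centralizer_iff.1 (mem_inf.1 hd).2 _ (hB hc'))
        exact congrArg Subtype.val (hle t.2 ⟨c, hBH hc'⟩ hc')
      have htD' : ((t : H) : G) ∈ normalizer (D : Set G) := by
        rw [mem_normalizer_iff]
        intro d
        constructor
        · intro hd
          exact (mem_normalizer_iff.1 htN ⟨⟨d, hDH hd⟩, mem_sup_right hd⟩).1 hd
        · intro hd
          have hdH : d ∈ H := by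
            have := mul_mem (mul_mem (inv_mem (t : H).2) (hDH hd)) (t : H).2
            simpa [mul_assoc] using this
          have hdT : (⟨d, hdH⟩ : H) ∈ T₁ := by
            have h1 : (⟨((t : H) : G) * d * ((t : H) : G)⁻¹, hDH hd⟩ : H) ∈ T₁ := mem_sup_right hd
            have h2 := mul_mem (mul_mem (inv_mem t.2) h1) t.2
            convert h2 using 1
            exact Subtype.ext (by simp [mul_assoc])
          exact (mem_normalizer_iff.1 htN ⟨⟨d, hdH⟩, hdT⟩).2 hd
      have htz : ((t : H) : G) * z = z * ((t : H) : G) :=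
        mul_inv_eq_iff_eq_mul.1 (hmove _ htD')
      apply htD
      refine hCT t (hT₁T t.2) (mem_centralizer_iff.2 fun e he => ?_)
      have hle : E ≤ centralizer ({((t : H) : G)} : Set G) := by
        rw [← hBz, sup_le_iff, zpowers_le]
        exact ⟨fun c hc' => mem_centralizer_singleton_iff.2 (htB c hc'),
          mem_centralizer_singleton_iff.2 htz.symm⟩
      exact mem_centralizer_singleton_iff.1 (hle he)
    exact ⟨yH, hgoal, rfl⟩
  -- the invariant subgroups generate an abelian group of odd order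
  have habel : ∀ Y : Subgroup G, Odd (Nat.card Y) → D ≤ normalizer (Y : Set G) →
      ∀ u ∈ Y, ∀ v ∈ Y, u * v = v * u := fun Y hY hDY u hu v hv => by
    have h : ∀ w ∈ Y, z * w * z⁻¹ = w⁻¹ := fun w hw => conj_eq_inv hz (hDY (hED hzE))
      (inf_centralizer_eq_bot hc hz (hc.le hzE) hSz hY hDY) hw
    have h' : (v * u)⁻¹ = u⁻¹ * v⁻¹ := mul_inv_rev v u
    have e : z * (v * u) * z⁻¹ = (z * v * z⁻¹) * (z * u * z⁻¹) := by group
    rw [h _ (mul_mem hv hu), h v hv, h u hu, h'] at e
    have := congrArg (fun w => w⁻¹) e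
    simp only [mul_inv_rev, inv_inv] at this
    exact this.symm
  let gens : Set G := {x | ∃ Y : Subgroup G, Odd (Nat.card Y) ∧ D ≤ normalizer (Y : Set G) ∧ x ∈ Y ∧
    ∃ B ≤ E, Nat.card E ≤ 2 * Nat.card B ∧ ∀ c ∈ B, c * x = x * c}
  have hcomm : ∀ x ∈ gens, ∀ y ∈ gens, x * y = y * x := by
    rintro x ⟨Y, hY, hDY, hxY, B, hB, hB4, hxB⟩ y ⟨Y', hY', hDY', hyY, B', hB', hB4', hyB⟩
    obtain ⟨c, hcB, hc1⟩ : ∃ c ∈ B ⊓ B', c ≠ 1 := by
      by_contra hno
      push Not at hno
      have hbot : B ⊓ B' = ⊥ := (Subgroup.eq_bot_iff_forall _).2 hno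
      exact inf_ne_bot hc hB hB' hB4 hB4' hbot
    have hDZ : ∀ W : Subgroup G, D ≤ normalizer (W : Set G) →
        D ≤ normalizer (W ⊓ centralizer ({c} : Set G) : Subgroup G) := fun W hW =>
      (le_inf hW ((show D ≤ centralizer ({c} : Set G) from fun d hd =>
        mem_centralizer_singleton_iff.2 (mem_centralizer_iff.1 hd.2 c (hB hcB.1)).symm).trans
          le_normalizer)).trans inf_normalizer_le_normalizer_inf
    have hx' := hcore c (hB hcB.1) hc1 _ (hY.of_dvd_nat (card_dvd_of_le inf_le_left)) (hDZ Y hDY)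
      inf_le_right ⟨hxY, mem_centralizer_singleton_iff.2 (hxB c hcB.1).symm⟩
    have hy' := hcore c (hB hcB.1) hc1 _ (hY'.of_dvd_nat (card_dvd_of_le inf_le_left)) (hDZ Y' hDY')
      inf_le_right ⟨hyY, mem_centralizer_singleton_iff.2 (hyB c hcB.2).symm⟩
    refine habel _ odd_core_map ?_ x hx' y hy'
    exact le_normalizer_core fun d hd =>
      mem_centralizer_singleton_iff.2 (mem_centralizer_iff.1 hd.2 c (hB hcB.1)).symm
  set W := closure gens with hW
  haveI : IsMulCommutative W := isMulCommutative_closure hcomm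
  have hWodd : Odd (Nat.card W) := by
    rw [← Nat.not_even_iff_odd, even_iff_two_dvd]
    intro h2
    obtain ⟨w, hw⟩ := exists_prime_orderOf_dvd_card' 2 h2
    have hall : ∀ u ∈ W, Odd (orderOf u) := by
      intro u hu
      induction hu using Subgroup.closure_induction with
      | mem x hx =>
        obtain ⟨Y, hY, -, hxY, -⟩ := hx
        exact hY.of_dvd_nat (Subgroup.orderOf_dvd_natCard Y hxY)
      | one => simp
      | mul u v hu hv hou hov =>
        have hcu : Commute u v :=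
          congrArg Subtype.val (mul_comm' (⟨u, hu⟩ : W) ⟨v, hv⟩)
        exact (hou.mul hov).of_dvd_nat (hcu.orderOf_mul_dvd_mul_orderOf)
      | inv u _ hou => rwa [orderOf_inv]
    have := hall w w.2
    rw [Subgroup.orderOf_coe, hw] at this
    exact Nat.not_odd_iff_even.2 (by norm_num) this
  have hSW : (S : Subgroup G) ≤ normalizer (W : Set G) := by
    have key : ∀ s ∈ (S : Subgroup G), ∀ x ∈ gens, s * x * s⁻¹ ∈ gens := by
      rintro s hs x ⟨Y, hY, hDY, hxY, B, hB, hB4, hxB⟩
      refine ⟨Y.map (MulAut.conj s).toMonoidHom,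
        by rw [card_map_of_injective (MulAut.conj s).injective]; exact hY, fun a ha => ?_,
        ⟨x, hxY, rfl⟩, B.map (MulAut.conj s).toMonoidHom, ?_,
        by rw [card_map_of_injective (MulAut.conj s).injective]; exact hB4, ?_⟩
      · have ha' : s⁻¹ * a * s ∈ normalizer (Y : Set G) :=
          hDY ((mem_normalizer_iff''.1 (hDn s hs) a).1 ha)
        refine le_normalizer_map (MulAut.conj s).toMonoidHom ⟨_, ha', ?_⟩
        show s * (s⁻¹ * a * s) * s⁻¹ = a
        group
      · rintro _ ⟨c, hc', rfl⟩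
        exact (mem_normalizer_iff.1 (hc.normal hs) c).1 (hB hc')
      · rintro _ ⟨c, hc', rfl⟩
        show s * c * s⁻¹ * (s * x * s⁻¹) = s * x * s⁻¹ * (s * c * s⁻¹)
        calc s * c * s⁻¹ * (s * x * s⁻¹) = s * (c * x) * s⁻¹ := by group
          _ = s * (x * c) * s⁻¹ := by rw [hxB c hc']
          _ = s * x * s⁻¹ * (s * c * s⁻¹) := by group
    have key' : ∀ s ∈ (S : Subgroup G), ∀ x ∈ W, s * x * s⁻¹ ∈ W := by
      intro s hs x hx
      induction hx using Subgroup.closure_induction with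
      | mem x hx => exact subset_closure (key s hs x hx)
      | one => simpa using W.one_mem
      | mul u v _ _ hu hv =>
        have e : s * (u * v) * s⁻¹ = s * u * s⁻¹ * (s * v * s⁻¹) := by group
        rw [e]; exact W.mul_mem hu hv
      | inv u _ hu =>
        have e : s * u⁻¹ * s⁻¹ = (s * u * s⁻¹)⁻¹ := by group
        rw [e]; exact W.inv_mem hu
    intro s hs
    refine mem_normalizer_iff.2 fun x => ⟨key' s hs x, fun h => ?_⟩
    have h2 := key' s⁻¹ (inv_mem hs) _ h
    simpa [mul_assoc] using h2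
  have hWbot : W = ⊥ := hc.inv W hWodd hSW
  haveI : IsMulCommutative E := ⟨⟨fun a c => Subtype.ext (hc.comm a a.2 c c.2)⟩⟩
  have hEcop : (Nat.card E).Coprime (Nat.card X) := by
    obtain ⟨k, hk⟩ := IsPGroup.iff_card.1 (S.2.to_le hc.le)
    rw [hk]
    exact Nat.Coprime.pow_left _ (Nat.coprime_two_left.2 hX)
  refine le_bot_iff.1 (le_of_le_of_eq (Coprime.le_of_forall_cyclic_quotient (hED.trans hDX) hEcop
    fun B hB hBa => ?_) hWbot)
  rintro x ⟨hx, hxB⟩
  obtain ⟨a, ha, hBa⟩ := hBa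
  exact subset_closure ⟨X, hX, hDX, hx, B, hB, card_le_two_mul hc hB ha hBa,
    fun c hc' => mem_centralizer_iff.1 hxB c hc'⟩

/-- Centralizers of involutions in `E` have characteristic 2. -/
theorem cp_centralizer_mem {S : Sylow 2 G} {E : Subgroup G} (hc : Conf S E) {b : G} (hb : b ∈ E)
    (hbo : orderOf b = 2) : LocalChar.CP 2 (centralizer ({b} : Set G)) := by
  haveI : Fact (Nat.Prime 2) := ⟨Nat.prime_two⟩
  refine LocalChar.cp_of_isPConstrained (isPConstrained_centralizer hc hbo) ?_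
  have h := eq_bot_of_invariant hc (X := (Cfsg.pPrimeCore 2 (centralizer ({b} : Set G))).map
    (centralizer ({b} : Set G)).subtype) odd_core_map (le_normalizer_core fun d hd =>
      mem_centralizer_singleton_iff.2 (mem_centralizer_iff.1 hd.2 b hb).symm)
  rwa [map_eq_bot_iff_of_injective _ (centralizer ({b} : Set G)).subtype_injective] at h

/-- Centralizers of involutions of `S` have characteristic 2. -/
theorem cp_centralizer_of_mem_sylow {S : Sylow 2 G} {E : Subgroup G} (hc : Conf S E) {w : G}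
    (hwS : w ∈ (S : Subgroup G)) (hw : orderOf w = 2) :
    LocalChar.CP 2 (centralizer ({w} : Set G)) := by
  classical
  haveI : Fact (Nat.Prime 2) := ⟨Nat.prime_two⟩
  haveI : IsMulCommutative E := ⟨⟨fun a c => Subtype.ext (hc.comm a a.2 c c.2)⟩⟩
  have hww := Invol.mul_self_of_orderOf_two hw
  have hwi := Invol.inv_of_orderOf_two hw
  set H := centralizer ({w} : Set G) with hH
  refine LocalChar.cp_of_isPConstrained (isPConstrained_centralizer hc hw) ?_
  set Y := (Cfsg.pPrimeCore 2 H).map H.subtype with hY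
  set B := E ⊓ H with hB
  -- `E ∩ C(w)` has order at least four
  have hB4 : 3 ≤ Nat.card B := by
    let φ : E →* E := MonoidHom.mk' (fun e => ⟨(e : G) * (w * e * w⁻¹),
      mul_mem e.2 ((mem_normalizer_iff.1 (hc.normal hwS) _).1 e.2)⟩) fun a b => Subtype.ext (by
        show (a : G) * b * (w * (a * b) * w⁻¹) = a * (w * a * w⁻¹) * (b * (w * b * w⁻¹))
        have h := hc.comm b b.2 (w * a * w⁻¹) ((mem_normalizer_iff.1 (hc.normal hwS) _).1 a.2)
        calc (a : G) * b * (w * (a * b) * w⁻¹) = a * (b * (w * a * w⁻¹)) * (w * b * w⁻¹) := by group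
          _ = a * ((w * a * w⁻¹) * b) * (w * b * w⁻¹) := by rw [h]
          _ = a * (w * a * w⁻¹) * (b * (w * b * w⁻¹)) := by group)
    have hker : φ.ker.map E.subtype ≤ B := by
      rintro _ ⟨e, he, rfl⟩
      refine mem_inf.2 ⟨e.2, mem_centralizer_singleton_iff.2 ?_⟩
      have h : (e : G) * (w * e * w⁻¹) = 1 := congrArg Subtype.val (MonoidHom.mem_ker.1 he)
      have h2 : w * e * w⁻¹ = e := (eq_inv_of_mul_eq_one_right h).trans
        (inv_eq_of_mul_eq_one_right (hc.sq e e.2))
      show (e : G) * w = w * e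
      nth_rw 1 [← h2]
      group
    have hrange : φ.range ≤ φ.ker := by
      rintro _ ⟨e, rfl⟩
      refine MonoidHom.mem_ker.2 (Subtype.ext ?_)
      show (e : G) * (w * e * w⁻¹) * (w * ((e : G) * (w * e * w⁻¹)) * w⁻¹) = 1
      have h := hc.comm (e : G) e.2 (w * e * w⁻¹) ((mem_normalizer_iff.1 (hc.normal hwS) _).1 e.2)
      calc (e : G) * (w * e * w⁻¹) * (w * ((e : G) * (w * e * w⁻¹)) * w⁻¹)
          = (e : G) * (w * e * w⁻¹) * ((w * e * w⁻¹) * (w * w * e * (w * w)⁻¹)) := by group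
        _ = (e : G) * ((w * e * w⁻¹) * (w * e * w⁻¹)) * e := by rw [hww]; group
        _ = 1 := by rw [hc.sq _ ((mem_normalizer_iff.1 (hc.normal hwS) _).1 e.2), mul_one, hc.sq e e.2]
    have h1 : Nat.card E = φ.ker.index * Nat.card φ.ker := (index_mul_card φ.ker).symm
    rw [index_ker] at h1
    have h2 := card_le_of_le hrange
    have h3 := card_le_of_le hker
    rw [card_map_of_injective E.subtype_injective] at h3
    by_contra hlt
    have h8 := hc.card
    have : Nat.card φ.ker ≤ 2 := by omega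
    nlinarith
  haveI : IsMulCommutative B := ⟨⟨fun a c => Subtype.ext (hc.comm a a.2.1 c c.2.1)⟩⟩
  have hnc : ¬ IsCyclic B := fun h => by
    obtain ⟨g, hg⟩ := h.exists_generator
    have h2 : g ^ 2 = 1 := Subtype.ext (by
      show (g : G) ^ 2 = 1
      rw [pow_two]; exact hc.sq g g.2.1)
    have hle := Nat.le_of_dvd two_pos (orderOf_dvd_of_pow_eq_one h2)
    rw [← Nat.card_zpowers, show zpowers g = ⊤ from eq_top_iff.2 fun x _ => hg x, card_top] at hle
    omega
  have hYodd : Odd (Nat.card Y) := odd_core_map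
  have hBY : B ≤ normalizer (Y : Set G) :=
    (le_normalizer_core (H := H) inf_le_right : E ⊓ H ≤ _)
  have hcop : (Nat.card B).Coprime (Nat.card Y) := by
    obtain ⟨k, hk⟩ := IsPGroup.iff_card.1 (S.2.to_le (inf_le_left.trans hc.le : B ≤ _))
    rw [hk]
    exact Nat.Coprime.pow_left _ (Nat.coprime_two_left.2 hYodd)
  have hbot : (⊥ : Subgroup G) = Y := by
    refine Coprime.eq_of_forall_centralizer_le hnc hBY hcop bot_le fun b hb hb1 => ?_
    have hbo : orderOf b = 2 := Invol.orderOf_two_of_mul_self (hc.sq b hb.1) hb1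
    set K := centralizer ({b} : Set G) with hK
    have hwK : w ∈ K := mem_centralizer_singleton_iff.2 (mem_centralizer_singleton_iff.1 hb.2).symm
    set C := centralizer ((zpowers (⟨w, hwK⟩ : K)) : Set K) with hC
    have hp : IsPGroup 2 (zpowers (⟨w, hwK⟩ : K)) :=
      isPGroup_zpowers (by rw [Subgroup.orderOf_mk]; exact hw)
    have hcpC : LocalChar.CP 2 C := LocalChar.cp_centralizer (cp_centralizer_mem hc hb.1 hbo) hp
    have hCH : ∀ c : K, c ∈ C → (c : G) ∈ H := fun c hc' => mem_centralizer_singleton_iff.2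
      (congrArg Subtype.val (mem_centralizer_iff.1 hc' _ (mem_zpowers _))).symm
    set N := (Y.subgroupOf K).subgroupOf C with hN
    haveI : N.Normal := by
      refine ⟨fun n hn c => ?_⟩
      show ((c * n * c⁻¹ : C) : K).1 ∈ Y
      exact (mem_normalizer_iff.1 ((le_normalizer_core (H := H) (le_refl H) : H ≤ _) (hCH c c.2)) _).1 hn
    have hNodd : Odd (Nat.card N) := by
      have h1 : N.map (K.subtype.comp C.subtype) ≤ Y := by rintro _ ⟨n, hn, rfl⟩; exact hn
      rw [← card_map_of_injective (K := N) (f := K.subtype.comp C.subtype)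
        (K.subtype_injective.comp C.subtype_injective)]
      exact hYodd.of_dvd_nat (card_dvd_of_le h1)
    have hN1 : N = ⊥ := by
      rw [← le_bot_iff, ← PCore.pPrimeCore_eq_bot_of_cp hcpC]
      exact PCore.le_pPrimeCore (Nat.coprime_two_right.2 hNodd)
    intro y hy
    have hyK : y ∈ K := hy.2
    have hyH : y ∈ H := map_subtype_le _ hy.1
    have hyC : (⟨y, hyK⟩ : K) ∈ C := by
      rw [hC, zpowers_eq_closure, centralizer_closure, mem_centralizer_singleton_iff]
      exact Subtype.ext (mem_centralizer_singleton_iff.1 hyH)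
    have hmem : (⟨⟨y, hyK⟩, hyC⟩ : C) ∈ N := hy.1
    rw [hN1, mem_bot] at hmem
    rw [mem_bot]
    exact congrArg (fun c : C => ((c : K) : G)) hmem
  rw [hY, eq_comm, map_eq_bot_iff_of_injective _ H.subtype_injective] at hbot
  exact hbot

/-- All centralizers of involutions have characteristic 2. -/
theorem cp_centralizer_involution {S : Sylow 2 G} {E : Subgroup G} (hc : Conf S E) {w : G}
    (hw : orderOf w = 2) : LocalChar.CP 2 (centralizer ({w} : Set G)) := by
  haveI : Fact (Nat.Prime 2) := ⟨Nat.prime_two⟩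
  obtain ⟨Q, hQ⟩ := (isPGroup_zpowers hw).exists_le_sylow
  obtain ⟨g, hg⟩ := MulAction.exists_smul_eq G Q S
  have hmem : g * w * g⁻¹ ∈ (S : Subgroup G) := by
    have h1 : g * w * g⁻¹ ∈ ((g • Q : Sylow 2 G) : Subgroup G) := ⟨w, hQ (mem_zpowers w), rfl⟩
    rwa [hg] at h1
  exact LocalChar.cp_centralizer_conj g
    (cp_centralizer_of_mem_sylow hc hmem (by rw [Invol.orderOf_conj_eq, hw]))

/-- All 2-locals have characteristic 2. -/
theorem cp_normalizer {S : Sylow 2 G} {E : Subgroup G} (hc : Conf S E) {T : Subgroup G}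
    (hT : IsPGroup 2 T) (hT1 : T ≠ ⊥) : LocalChar.CP 2 (normalizer (T : Set G)) := by
  haveI : Fact (Nat.Prime 2) := ⟨Nat.prime_two⟩
  obtain ⟨w, hw, hwc, hwo⟩ := PGroup.exists_orderOf_eq_mem_center hT ⊤
    (fun h => hT1 (by
      rw [← range_subtype T, MonoidHom.range_eq_map, h, Subgroup.map_bot]))
  refine LocalChar.cp_normalizer_of_centralizer_elem hT w.2 (fun x hx => ?_)
    (cp_centralizer_involution hc ((Subgroup.orderOf_coe w).trans hwo))
  exact congrArg Subtype.val (mem_center_iff.1 hwc ⟨x, hx⟩)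

end Cfsg.Agent.TwoType
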